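import Groth.Agent.L27.Quot.Local
import Groth.Agent.L27.Quot.Desc
import Mathlib.RingTheory.IsTensorProduct
import Mathlib.AlgebraicGeometry.Morphisms.Flat

/-!
# Quotients by finite groups of invertible order commute with base change
-/

set_option autoImplicit false
set_option linter.style.haveILetI false
set_option linter.unusedSectionVars false
set_option backward.isDefEq.respectTransparency false

universe u

open CategoryTheory CategoryTheory.Limits AlgebraicGeometry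
open scoped TensorProduct

noncomputable section

namespace Groth.L22.SymQuot

section Alg

variable {R S A B : Type u} [CommRing R] [CommRing S] [CommRing A] [CommRing B]
  [Algebra R S] [Algebra R A] [Algebra R B] [Algebra S B] [Algebra A B]
  [IsScalarTower R S B] [IsScalarTower R A B] [Algebra.IsPushout R S A B]
  {ι : Type*} [Fintype ι] (σ : ι → A →+* A) (τ : ι → B →+* B)

/-- Averaging: fixed rings commute with any base change on which the order is invertible. -/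
theorem fixed_baseChange_of_isUnit (hn : IsUnit ((Fintype.card ι : ℕ) : S))
    (hσ : ∀ i (r : R), σ i (algebraMap R A r) = algebraMap R A r)
    (hτ : ∀ i (s : S), τ i (algebraMap S B s) = algebraMap S B s)
    (hc : ∀ i (a : A), τ i (algebraMap A B a) = algebraMap A B (σ i a))
    (hsum : ∀ j a, σ j (∑ i, σ i a) = ∑ i, σ i a)
    (hinj : Function.Injective (algebraMap R A))
    (hfix : ∀ a, (∀ i, σ i a = a) → a ∈ Set.range (algebraMap R A)) :
    Function.Injective (algebraMap S B) ∧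
      ∀ b, (∀ i, τ i b = b) → b ∈ Set.range (algebraMap S B) := by
  have hN : ∀ a, ∃ r, algebraMap R A r = ∑ i, σ i a := fun a => hfix _ fun j => hsum j a
  choose N hN using hN
  let Nl : A →ₗ[R] R :=
    { toFun := N
      map_add' := fun a b => hinj (by rw [map_add, hN, hN, hN, ← Finset.sum_add_distrib]; simp only [map_add])
      map_smul' := fun r a => hinj (by
        rw [RingHom.id_apply, smul_eq_mul, map_mul, hN, hN, Finset.mul_sum]
        simp only [Algebra.smul_def, map_mul, hσ]) }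
  let f : R →ₗ[R] A := Algebra.linearMap R A
  let e := Algebra.IsPushout.equiv R S A B
  have hNf : Nl (f 1) = (Fintype.card ι : R) := by
    apply hinj
    show algebraMap R A (N (algebraMap R A 1)) = _
    rw [hN]
    simp
  have he : ∀ z : S ⊗[R] R, algebraMap S B (TensorProduct.rid R S z) = e (f.lTensor S z) := fun z => by
    induction z using TensorProduct.induction_on with
    | zero => simp
    | tmul s r =>
      simp only [TensorProduct.rid_tmul, LinearMap.lTensor_tmul, f, Algebra.linearMap_apply, e,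
        Algebra.IsPushout.equiv_tmul, Algebra.smul_def, map_mul]
      rw [← IsScalarTower.algebraMap_apply, ← IsScalarTower.algebraMap_apply, mul_comm]
    | add x y hx hy => simp only [map_add, hx, hy]
  obtain ⟨w, hw⟩ := hn
  have hcard : ∀ s : S, ((↑w⁻¹ : S) * ((Fintype.card ι : ℕ) : S)) * s = s := fun s => by
    rw [← hw, Units.inv_mul, one_mul]
  refine ⟨fun s t h => ?_, fun b hb => ?_⟩
  · have h2 : f.lTensor S (s ⊗ₜ[R] (1 : R)) = f.lTensor S (t ⊗ₜ[R] (1 : R)) := by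
      apply e.injective
      rw [← he, ← he]
      simpa using h
    have h3 := congrArg (fun z => TensorProduct.rid R S (Nl.lTensor S z)) h2
    simp only [LinearMap.lTensor_tmul, hNf, TensorProduct.rid_tmul, Algebra.smul_def, map_natCast] at h3
    rw [← hcard s, ← hcard t, mul_assoc, mul_assoc]
    exact congrArg _ h3
  · obtain ⟨z, rfl⟩ := e.surjective b
    refine ⟨(↑w⁻¹ : S) * TensorProduct.rid R S (Nl.lTensor S z), ?_⟩
    have hsum' : ∀ z : S ⊗[R] A, algebraMap S B (TensorProduct.rid R S (Nl.lTensor S z)) = ∑ i, τ i (e z) := fun z => by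
      induction z using TensorProduct.induction_on with
      | zero => simp
      | tmul s a =>
        rw [he, LinearMap.lTensor_tmul, LinearMap.lTensor_tmul]
        simp only [e, Algebra.IsPushout.equiv_tmul, map_mul, hτ, hc, ← Finset.mul_sum, ← map_sum]
        rw [show f (Nl a) = ∑ i, σ i a from hN a]
      | add x y hx hy => simp only [map_add, hx, hy, Finset.sum_add_distrib]
    rw [map_mul, hsum', Finset.sum_congr rfl fun i _ => hb i, Finset.sum_const, Finset.card_univ, nsmul_eq_mul,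
      ← mul_assoc, ← map_natCast (algebraMap S B), ← map_mul, ← hw, Units.inv_mul, map_one, one_mul]

end Alg

variable {X Y X' Y' : Scheme.{u}} {G : Type u} [Group G] [Finite G]

/-- Quotients by groups of invertible order commute with arbitrary base change. -/
theorem isQuot_baseChange_of_isUnit {ρ : G →* Aut X} {p : X ⟶ Y} (hp : SGA1.IsQuot ρ p) (qY : Y' ⟶ Y)
    (hn : IsUnit ((Nat.card G : ℕ) : Γ(Y', ⊤))) (pX : X' ⟶ X) (p' : X' ⟶ Y') (hX : IsPullback pX p' p qY)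
    (ρ' : G →* Aut X') (hρ₁ : ∀ g : G, (ρ' g).hom ≫ pX = pX ≫ (ρ g).hom) (hρ₂ : ∀ g : G, (ρ' g).hom ≫ p' = p') :
    SGA1.IsQuot ρ' p' := by
  classical
  letI := Fintype.ofFinite G
  rw [Nat.card_eq_fintype_card] at hn
  have hinv := hρ₂
  haveI := hp.affine
  have haff : IsAffineHom p' := MorphismProperty.of_isPullback hX hp.affine
  refine Groth.L27.Quot.isQuot_of_affine_cover haff hinv fun y => ?_
  obtain ⟨V, hV, hyV, -⟩ := exists_isAffineOpen_mem_and_subset (U := (⊤ : Y.Opens)) (x := qY y) trivial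
  obtain ⟨W, hW, hyW, hWV⟩ := exists_isAffineOpen_mem_and_subset (U := qY ⁻¹ᵁ V) (x := y) hyV
  refine ⟨W, hW, hyW, ?_⟩
  have hUY : p' ⁻¹ᵁ W = pX ⁻¹ᵁ (p ⁻¹ᵁ V) ⊓ p' ⁻¹ᵁ W := by
    refine (inf_eq_right.2 ?_).symm
    rw [← Scheme.Hom.comp_preimage, hX.w, Scheme.Hom.comp_preimage]
    exact p'.preimage_mono hWV
  have hpo := (isIso_pushoutSection_iff hX hWV (le_refl _) hUY).1
    (isIso_pushoutSection_of_isAffineOpen hX hWV (le_refl _) hUY hV hW (hV.preimage p))
  letI : Algebra Γ(Y, V) Γ(X, p ⁻¹ᵁ V) := (p.appLE V (p ⁻¹ᵁ V) (le_refl _)).hom.toAlgebra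
  letI : Algebra Γ(Y, V) Γ(Y', W) := (qY.appLE V W hWV).hom.toAlgebra
  letI : Algebra Γ(X, p ⁻¹ᵁ V) Γ(X', p' ⁻¹ᵁ W) :=
    (pX.appLE (p ⁻¹ᵁ V) (p' ⁻¹ᵁ W) (hUY.le.trans inf_le_left)).hom.toAlgebra
  letI : Algebra Γ(Y', W) Γ(X', p' ⁻¹ᵁ W) := (p'.appLE W (p' ⁻¹ᵁ W) (le_refl _)).hom.toAlgebra
  letI : Algebra Γ(Y, V) Γ(X', p' ⁻¹ᵁ W) :=
    ((algebraMap Γ(X, p ⁻¹ᵁ V) Γ(X', p' ⁻¹ᵁ W)).comp (algebraMap Γ(Y, V) Γ(X, p ⁻¹ᵁ V))).toAlgebra
  haveI : IsScalarTower Γ(Y, V) Γ(X, p ⁻¹ᵁ V) Γ(X', p' ⁻¹ᵁ W) := .of_algebraMap_eq' rfl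
  haveI : IsScalarTower Γ(Y, V) Γ(Y', W) Γ(X', p' ⁻¹ᵁ W) :=
    .of_algebraMap_eq' (congrArg CommRingCat.Hom.hom hpo.w)
  haveI : Algebra.IsPushout Γ(Y, V) Γ(Y', W) Γ(X, p ⁻¹ᵁ V) Γ(X', p' ⁻¹ᵁ W) :=
    (CommRingCat.isPushout_iff_isPushout.1 hpo).symm
  have e1 : p.appLE V (p ⁻¹ᵁ V) (le_refl _) = p.app V := Scheme.Hom.appLE_eq_app p
  have e2 : p'.appLE W (p' ⁻¹ᵁ W) (le_refl _) = p'.app W := Scheme.Hom.appLE_eq_app p'
  have hnW : IsUnit ((Fintype.card G : ℕ) : Γ(Y', W)) := by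
    have h := hn.map (Y'.presheaf.map (homOfLE (le_top : W ≤ ⊤)).op).hom
    rwa [map_natCast] at h
  have key := fixed_baseChange_of_isUnit (R := Γ(Y, V)) (S := Γ(Y', W)) (A := Γ(X, p ⁻¹ᵁ V))
    (B := Γ(X', p' ⁻¹ᵁ W)) (fun g : G => (Groth.L27.Quot.act hp.inv g V).hom)
    (fun g : G => (Groth.L27.Quot.act hinv g W).hom) hnW
    (fun g r => ?_) (fun g s => ?_) (fun g a => ?_) (fun h a => ?_) ?_ ?_
  · refine ⟨?_, fun s hs => ?_⟩
    · rw [← e2]; exact key.1
    · rw [← e2]; exact key.2 s hs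
  · change (Groth.L27.Quot.act hp.inv g V).hom ((p.appLE V _ _).hom r) = (p.appLE V _ _).hom r
    rw [e1]; exact ConcreteCategory.congr_hom (Groth.L27.Quot.act_app hp.inv g V) r
  · change (Groth.L27.Quot.act hinv g W).hom ((p'.appLE W _ _).hom s) = (p'.appLE W _ _).hom s
    rw [e2]; exact ConcreteCategory.congr_hom (Groth.L27.Quot.act_app hinv g W) s
  · refine ConcreteCategory.congr_hom (?_ : pX.appLE (p ⁻¹ᵁ V) (p' ⁻¹ᵁ W) (hUY.le.trans inf_le_left) ≫
      Groth.L27.Quot.act hinv g W = Groth.L27.Quot.act hp.inv g V ≫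
        pX.appLE (p ⁻¹ᵁ V) (p' ⁻¹ᵁ W) (hUY.le.trans inf_le_left)) a
    rw [Groth.L27.Quot.act, Groth.L27.Quot.act, Scheme.Hom.appLE_comp_appLE, Scheme.Hom.appLE_comp_appLE,
      Groth.L27.Quot.appLE_eq_of_eq (hρ₁ g)]
  · simp only [map_sum]
    refine Fintype.sum_equiv (Equiv.mulRight h) _ _ fun g => ?_
    rw [Equiv.coe_mulRight, Groth.L27.Quot.act_mul]
    rfl
  · change Function.Injective (p.appLE V _ _).hom
    rw [e1]; exact hp.injective V
  · intro a ha
    change a ∈ Set.range (p.appLE V _ _).hom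
    rw [e1]; exact (hp.range_iff V a).2 ha

/-- The map between two quotients by the same action is an isomorphism. -/
theorem isIso_of_isQuot {Y₂ : Scheme.{u}} {ρ : G →* Aut X} {r : X ⟶ Y} (hr : SGA1.IsQuot ρ r) {p : X ⟶ Y₂}
    (hp : SGA1.IsQuot ρ p) (m : Y ⟶ Y₂) (hm : r ≫ m = p) : IsIso m :=
  ⟨Groth.L27.Quot.desc hp r hr.inv,
    Groth.L27.Quot.hom_ext hr (by rw [← Category.assoc, hm, Groth.L27.Quot.comp_desc, Category.comp_id]),
    Groth.L27.Quot.hom_ext hp (by rw [← Category.assoc, Groth.L27.Quot.comp_desc, hm, Category.comp_id])⟩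

/-- Quotients transport along equivariant isomorphisms. -/
theorem isQuot_iso_comp {X₂ : Scheme.{u}} {ρ : G →* Aut X} {r : X ⟶ Y} (hr : SGA1.IsQuot ρ r) (e : X₂ ≅ X)
    (ρ₂ : G →* Aut X₂) (he : ∀ g : G, (ρ₂ g).hom ≫ e.hom = e.hom ≫ (ρ g).hom) : SGA1.IsQuot ρ₂ (e.hom ≫ r) := by
  haveI := hr.affine
  have hinv : ∀ g : G, (ρ₂ g).hom ≫ e.hom ≫ r = e.hom ≫ r := fun g => by
    rw [← Category.assoc, he, Category.assoc, hr.inv]
  refine ⟨inferInstance, hinv, fun U => ?_, fun U s => ?_⟩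
  · rw [Scheme.Hom.comp_app]
    exact (ConcreteCategory.bijective_of_isIso (e.hom.app (r ⁻¹ᵁ U))).1.comp (hr.injective U)
  · obtain ⟨t, rfl⟩ := (ConcreteCategory.bijective_of_isIso (e.hom.app (r ⁻¹ᵁ U))).2 s
    have key : ∀ g : G, ((ρ₂ g).hom.appLE ((e.hom ≫ r) ⁻¹ᵁ U) ((e.hom ≫ r) ⁻¹ᵁ U)
        (SGA1.preimage_le_of_inv ρ₂ _ hinv g U)).hom ((e.hom.app (r ⁻¹ᵁ U)).hom t) =
        (e.hom.app (r ⁻¹ᵁ U)).hom (((ρ g).hom.appLE (r ⁻¹ᵁ U) (r ⁻¹ᵁ U)
          (SGA1.preimage_le_of_inv ρ r hr.inv g U)).hom t) := fun g => by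
      refine ConcreteCategory.congr_hom (?_ : e.hom.app (r ⁻¹ᵁ U) ≫ (ρ₂ g).hom.appLE _ _ _ =
        (ρ g).hom.appLE _ _ _ ≫ e.hom.app (r ⁻¹ᵁ U)) t
      rw [Scheme.Hom.app_eq_appLE, Scheme.Hom.appLE_comp_appLE, Scheme.Hom.appLE_comp_appLE,
        Groth.L27.Quot.appLE_eq_of_eq (he g)]
    have hinj := (ConcreteCategory.bijective_of_isIso (e.hom.app (r ⁻¹ᵁ U))).1
    constructor
    · rintro ⟨a, ha⟩ g
      have ht : (r.app U).hom a = t := hinj (by rw [← ha, Scheme.Hom.comp_app]; rfl)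
      exact (key g).trans (congrArg _ (((hr.range_iff U t).1 ⟨a, ht⟩) g))
    · intro h
      obtain ⟨a, ha⟩ := (hr.range_iff U t).2 fun g => hinj ((key g).symm.trans (h g))
      exact ⟨a, by rw [Scheme.Hom.comp_app, ← ha]; rfl⟩

/-- The order of a symmetric group is invertible wherever all positive integers are. -/
theorem isUnit_card_perm {T : Scheme.{u}} {S : Scheme.{u}} (b : T ⟶ S)
    (h : ∀ n : ℕ, 0 < n → IsUnit ((n : ℕ) : Γ(S, ⊤))) {H : Type*} [Finite H] [Nonempty H] :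
    IsUnit ((Nat.card H : ℕ) : Γ(T, ⊤)) := by
  have h2 := (h _ (Nat.card_pos (α := H))).map b.appTop.hom
  rwa [map_natCast] at h2

end Groth.L22.SymQuot
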