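import Groth.Agent.L22.SymQuot.Box

/-!
# Points of stable affine opens of fibre powers and their inertia
-/

set_option autoImplicit false
set_option linter.style.haveILetI false
set_option backward.isDefEq.respectTransparency false

universe u

open CategoryTheory CategoryTheory.Limits AlgebraicGeometry TopologicalSpace

noncomputable section

namespace Groth.L22.SymQuot

/-- Sections over an open localise to the sections over an open mapped isomorphically onto a basic open. -/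
theorem isLoc_appLE {P Q : Scheme.{u}} (c : Q ⟶ P) {W : P.Opens} (hW : IsAffineOpen W) (v : Γ(P, W))
    (D2 : Q.Opens) [IsOpenImmersion (D2.ι ≫ c)]
    (hr : Set.range (D2.ι ≫ c).base = (P.basicOpen v : Set P)) (e : D2 ≤ c ⁻¹ᵁ W) :
    IsLoc (c.appLE W D2 e).hom v := by
  let D := P.basicOpen v
  have hle : D ≤ W := P.basicOpen_le v
  have eD : D2 ≤ c ⁻¹ᵁ D := fun q hq => by
    have : (D2.ι ≫ c).base ⟨q, hq⟩ ∈ (P.basicOpen v : Set P) := hr ▸ ⟨_, rfl⟩
    exact this
  let g := D2.ι ≫ c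
  have hDg : D ≤ g.opensRange := fun p hp => by
    show p ∈ Set.range g.base
    rw [hr]
    exact hp
  haveI hgi : IsIso (g.app D) := g.isIso_app D hDg
  have hpre : g ⁻¹ᵁ D = ⊤ := top_le_iff.1 fun p _ => (eD p.2)
  haveI h1 : IsIso (g.appLE D ⊤ hpre.ge) := by
    have he : g.appLE D ⊤ hpre.ge = g.app D ≫ D2.toScheme.presheaf.map (eqToHom hpre.symm).op := by
      rw [Scheme.Hom.app_eq_appLE, Scheme.Hom.appLE_map]
    rw [he]; infer_instance
  have hpre2 : D2.ι ⁻¹ᵁ D2 = ⊤ := D2.ι_preimage_self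
  haveI h2 : IsIso (D2.ι.appLE D2 ⊤ hpre2.ge) := by
    have he : D2.ι.appLE D2 ⊤ hpre2.ge = D2.ι.app D2 ≫ D2.toScheme.presheaf.map (eqToHom hpre2.symm).op := by
      rw [Scheme.Hom.app_eq_appLE, Scheme.Hom.appLE_map]
    haveI : IsIso (D2.ι.app D2) := D2.ι.isIso_app D2 (by simp)
    rw [he]; infer_instance
  have hcomp : c.appLE D D2 eD ≫ D2.ι.appLE D2 ⊤ hpre2.ge = g.appLE D ⊤ hpre.ge :=
    Scheme.Hom.appLE_comp_appLE _ _ _ _ _ _ _
  haveI : IsIso (c.appLE D D2 eD) := by
    haveI : IsIso (c.appLE D D2 eD ≫ D2.ι.appLE D2 ⊤ hpre2.ge) := hcomp ▸ h1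
    exact IsIso.of_isIso_comp_right _ (D2.ι.appLE D2 ⊤ hpre2.ge)
  have hbij := ConcreteCategory.bijective_of_isIso (c.appLE D D2 eD)
  have hfac : c.appLE W D2 e = P.presheaf.map (homOfLE hle).op ≫ c.appLE D D2 eD :=
    (Scheme.Hom.map_appLE c eD (homOfLE hle).op).symm
  haveI := hW.isLocalization_basicOpen v
  refine ⟨?_, fun y => ?_, fun b hb => ?_⟩
  · rw [hfac]
    exact (IsLocalization.Away.algebraMap_isUnit (S := Γ(P, P.basicOpen v)) v).map (c.appLE D D2 eD).hom
  · obtain ⟨y', rfl⟩ := hbij.2 y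
    obtain ⟨n, a, ha⟩ := IsLocalization.Away.surj v y'
    refine ⟨n, a, ?_⟩
    rw [hfac]
    show (c.appLE D D2 eD).hom y' * (c.appLE D D2 eD).hom (algebraMap Γ(P, W) Γ(P, P.basicOpen v) v) ^ n =
      (c.appLE D D2 eD).hom (algebraMap Γ(P, W) Γ(P, P.basicOpen v) a)
    rw [← map_pow, ← map_mul, ha]
  · rw [hfac] at hb
    have h0 : algebraMap Γ(P, W) Γ(P, P.basicOpen v) b = 0 := hbij.1 (hb.trans (map_zero _).symm)
    obtain ⟨⟨_, n, rfl⟩, hn⟩ := (IsLocalization.map_eq_zero_iff (Submonoid.powers v) _ _).1 h0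
    exact ⟨n, hn⟩

variable {X S : Scheme.{u}} {f : X ⟶ S} {d : ℕ} {W : (SymProd.fibPow f d).Opens} (hW : IsAffineOpen W)
  {k : Type u} [Field k] (φ : Γ(SymProd.fibPow f d, W) →+* k)

/-- The point of a stable affine open given by a homomorphism to a field. -/
def pt : Spec (CommRingCat.of k) ⟶ SymProd.fibPow f d := Spec.map (CommRingCat.ofHom φ) ≫ hW.fromSpec

/-- The underlying point. -/
def pnt : ↥(SymProd.fibPow f d) := (pt hW φ).base (IsLocalRing.closedPoint k)

theorem pnt_mem : pnt hW φ ∈ W := by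
  rw [← SetLike.mem_coe, ← hW.range_fromSpec]
  exact ⟨_, rfl⟩

theorem pnt_mem_basicOpen (b : Γ(SymProd.fibPow f d, W)) :
    pnt hW φ ∈ (SymProd.fibPow f d).basicOpen b ↔ φ b ≠ 0 := by
  show (Spec.map (CommRingCat.ofHom φ)).base (IsLocalRing.closedPoint k) ∈
    hW.fromSpec ⁻¹ᵁ (SymProd.fibPow f d).basicOpen b ↔ _
  rw [hW.fromSpec_preimage_basicOpen]
  show φ b ∉ IsLocalRing.maximalIdeal k ↔ _
  rw [IsLocalRing.maximalIdeal_eq_bot, Ideal.mem_bot]

theorem pt_mv (hWs : Stable f d W) (g : GP.{u} d) :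
    pt hW φ ≫ mv f d g = pt hW (φ.comp ((mv f d g).appLE W W (hWs g)).hom) := by
  rw [pt, pt, Category.assoc, ← IsAffineOpen.SpecMap_appLE_fromSpec _ hW hW (hWs g), ← Spec.map_comp_assoc]
  rfl

theorem pt_injective {φ' : Γ(SymProd.fibPow f d, W) →+* k} (h : pt hW φ = pt hW φ') : φ = φ' := by
  rw [pt, pt, cancel_mono] at h
  exact congrArg CommRingCat.Hom.hom (Spec.map_injective h)

/-- The inertia of a point consists of the permutations fixing its components. -/
theorem mem_inertia_iff (hWs : Stable f d W) (g : GP.{u} d) :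
    letI := actOn hWs
    g ∈ (RingHom.ker φ).inertia (GP.{u} d) ↔ ∀ i, pt hW φ ≫ prj f d (g.down i) = pt hW φ ≫ prj f d i := by
  letI := actOn hWs
  have h1 : g ∈ (RingHom.ker φ).inertia (GP.{u} d) ↔ pt hW φ ≫ mv f d g = pt hW φ := by
    rw [pt_mv hW φ hWs g]
    constructor
    · intro h
      congr 1
      refine RingHom.ext fun b => ?_
      have := h b
      rw [Submodule.mem_toAddSubgroup, RingHom.mem_ker, map_sub, sub_eq_zero] at this
      exact this
    · intro h b
      have := RingHom.congr_fun (pt_injective hW _ h) b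
      rw [Submodule.mem_toAddSubgroup, RingHom.mem_ker, map_sub, sub_eq_zero]
      exact this
  rw [h1]
  constructor
  · intro h i
    rw [← mv_prj f d g i, ← Category.assoc, h]
  · intro h
    apply WidePullback.hom_ext
    · intro i
      rw [Category.assoc]
      exact (congrArg (pt hW φ ≫ ·) (mv_prj f d g i)).trans (h i)
    · rw [Category.assoc]
      exact congrArg (pt hW φ ≫ ·) (mv_bse f d g)

open scoped Classical in
/-- Invariant basic open neighbourhoods. -/
theorem exists_invariant_basicOpen (hWs : Stable f d W) (H : Subgroup (GP.{u} d))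
    (hH : ∀ g ∈ H, ∀ i, pt hW φ ≫ prj f d (g.down i) = pt hW φ ≫ prj f d i)
    (O : (SymProd.fibPow f d).Opens) (hO : pnt hW φ ∈ O) :
    letI := actOn hWs
    ∃ v : Γ(SymProd.fibPow f d, W), (∀ h : H, h • v = v) ∧ φ v ≠ 0 ∧ (SymProd.fibPow f d).basicOpen v ≤ O := by
  letI := actOn hWs
  haveI := Fintype.ofFinite H
  obtain ⟨b, hbO, hbx⟩ := hW.exists_basicOpen_le ⟨pnt hW φ, hO⟩ (pnt_mem hW φ)
  have hb0 : φ b ≠ 0 := (pnt_mem_basicOpen hW φ b).1 hbx
  refine ⟨∏ h : H, h • b, fun h => ?_, ?_, le_trans ?_ hbO⟩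
  · rw [Finset.smul_prod']
    exact Fintype.prod_equiv (Equiv.mulLeft h) _ _ fun l => (mul_smul h l b).symm
  · rw [map_prod, Finset.prod_ne_zero_iff]
    intro h _
    have h2 := (mem_inertia_iff hW φ hWs (h : GP.{u} d)).2 (hH _ h.2) b
    rw [Submodule.mem_toAddSubgroup, RingHom.mem_ker, map_sub, sub_eq_zero] at h2
    show φ ((h : GP.{u} d) • b) ≠ 0
    rw [h2]; exact hb0
  · rw [← Finset.mul_prod_erase Finset.univ (fun h : H => h • b) (Finset.mem_univ 1), one_smul,
      Scheme.basicOpen_mul]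
    exact inf_le_left

end Groth.L22.SymQuot
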