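import Groth.Agent.L22.SymQuot.Local
import Groth.Agent.L16.SymProd.Chart
import Groth.Agent.L27.Quot.Basic

/-!
# Boxes in fibre powers

For opens `U i` of `X` and an open `V` of `S`, the open `boxF f d V U` of the fibre power consists of the
points over `V` with `i`-th component in `U i`.
-/

set_option autoImplicit false
set_option linter.style.haveILetI false
set_option backward.isDefEq.respectTransparency false

universe u

open CategoryTheory CategoryTheory.Limits AlgebraicGeometry TopologicalSpace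

noncomputable section

namespace Groth.L22.SymQuot

variable {X S : Scheme.{u}} (f : X ⟶ S) (d : ℕ)

/-- The symmetric group in the universe of the schemes. -/
abbrev GP (d : ℕ) : Type u := ULift.{u} (Equiv.Perm (Fin d))

/-- The structure map. -/
abbrev bse : SymProd.fibPow f d ⟶ S := WidePullback.base (fun _ : Fin d => f)

/-- The projections. -/
abbrev prj (i : Fin d) : SymProd.fibPow f d ⟶ X := WidePullback.π (fun _ : Fin d => f) i

/-- The endomorphism through which `g` acts on sections. -/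
abbrev mv (g : GP.{u} d) : SymProd.fibPow f d ⟶ SymProd.fibPow f d := SymProd.permHom f d g.down.symm

theorem mv_prj (g : GP.{u} d) (i : Fin d) : mv f d g ≫ prj f d i = prj f d (g.down i) := by
  rw [SymProd.permHom_π, Equiv.symm_symm]

theorem mv_bse (g : GP.{u} d) : mv f d g ≫ bse f d = bse f d := SymProd.permHom_base _ _ _

theorem mv_one : mv f d 1 = 𝟙 _ := SymProd.permHom_one f d

theorem mv_mul (g h : GP.{u} d) : mv f d (g * h) = mv f d g ≫ mv f d h := by
  show SymProd.permHom f d (g.down * h.down).symm = _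
  rw [show (g.down * h.down).symm = h.down.symm * g.down.symm from mul_inv_rev g.down h.down,
    SymProd.permHom_mul]

/-- An open of the fibre power stable under the permutations. -/
def Stable (W : (SymProd.fibPow f d).Opens) : Prop := ∀ g : GP.{u} d, W ≤ mv f d g ⁻¹ᵁ W

variable {f d}

/-- The permutations act on sections over a stable open. -/
@[reducible]
def actOn {W : (SymProd.fibPow f d).Opens} (hW : Stable f d W) : MulSemiringAction (GP.{u} d) Γ(SymProd.fibPow f d, W) where
  smul g s := ((mv f d g).appLE W W (hW g)).hom s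
  one_smul s := by
    show ((mv f d 1).appLE W W (hW 1)).hom s = s
    rw [Groth.L27.Quot.appLE_eq_of_eq (mv_one f d)]
    simp [Scheme.Hom.appLE]
    exact congr(($((SymProd.fibPow f d).presheaf.map_id (Opposite.op W))).hom s)
  mul_smul g h s := by
    show ((mv f d (g * h)).appLE W W (hW _)).hom s =
      ((mv f d g).appLE W W (hW g)).hom (((mv f d h).appLE W W (hW h)).hom s)
    rw [← CommRingCat.comp_apply, Scheme.Hom.appLE_comp_appLE, Groth.L27.Quot.appLE_eq_of_eq (mv_mul f d g h)]
  smul_zero g := map_zero ((mv f d g).appLE W W (hW g)).hom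
  smul_add g := map_add ((mv f d g).appLE W W (hW g)).hom
  smul_one g := map_one ((mv f d g).appLE W W (hW g)).hom
  smul_mul g := map_mul ((mv f d g).appLE W W (hW g)).hom

variable (f d)

/-- Points over `V` with components in the `U i`. -/
def boxF (V : S.Opens) (U : Fin d → X.Opens) : (SymProd.fibPow f d).Opens :=
  bse f d ⁻¹ᵁ V ⊓ Finset.univ.inf fun i : Fin d => prj f d i ⁻¹ᵁ U i

variable {f d}

theorem mem_boxF {V : S.Opens} {U : Fin d → X.Opens} {p : ↥(SymProd.fibPow f d)} :
    p ∈ boxF f d V U ↔ (bse f d).base p ∈ V ∧ ∀ i, (prj f d i).base p ∈ U i := by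
  rw [boxF, Opens.mem_inf, Scheme.Hom.mem_preimage]
  refine and_congr Iff.rfl ?_
  rw [← SetLike.mem_coe, Opens.coe_finset_inf]
  simp

theorem boxF_top (V : S.Opens) : boxF f d V (fun _ => ⊤) = bse f d ⁻¹ᵁ V := by
  ext p
  simp only [SetLike.mem_coe, mem_boxF, Opens.mem_top, implies_true, and_true, Scheme.Hom.mem_preimage]

/-- A map between fibre powers. -/
abbrev cmap {X₁ : Scheme.{u}} (f₁ : X₁ ⟶ S) (u₁ : X₁ ⟶ X) (hu : u₁ ≫ f = f₁) :
    SymProd.fibPow f₁ d ⟶ SymProd.fibPow f d := SymProd.fibPowMap f₁ d f u₁ hu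

theorem mv_cmap {X₁ : Scheme.{u}} (f₁ : X₁ ⟶ S) (u₁ : X₁ ⟶ X) (hu : u₁ ≫ f = f₁) (g : GP.{u} d) :
    mv f₁ d g ≫ cmap f₁ u₁ hu = cmap f₁ u₁ hu ≫ mv f d g := by
  apply WidePullback.hom_ext
  · intro i; simp
  · simp

section Cov

variable (f) {J : Type u} [Finite J] (U : J → X.Opens)

/-- The disjoint union of the opens. -/
abbrev covX : Scheme.{u} := ∐ fun j => (U j).toScheme

/-- Its map to `X`. -/
abbrev covU : covX U ⟶ X := Sigma.desc fun j => (U j).ι

/-- Its map to `S`. -/
abbrev covF : covX U ⟶ S := covU U ≫ f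

/-- The summands. -/
abbrev covR (j : J) : (covX U).Opens := (Sigma.ι (fun j => (U j).toScheme) j).opensRange

variable {f U}

theorem covU_mem {j : J} {y : ↥(covX U)} (hy : y ∈ covR U j) : (covU U).base y ∈ U j := by
  obtain ⟨z, rfl⟩ := hy
  rw [← Scheme.Hom.comp_apply, Sigma.ι_desc]
  exact z.2

theorem covR_cover (y : ↥(covX U)) : ∃ j, y ∈ covR U j := by
  obtain ⟨⟨j, z⟩, rfl⟩ := (sigmaMk (fun j => (U j).toScheme)).surjective y
  exact ⟨j, ⟨z, (sigmaMk_mk (fun j => (U j).toScheme) j z).symm⟩⟩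

theorem covR_unique {i j : J} {y : ↥(covX U)} (hi : y ∈ covR U i) (hj : y ∈ covR U j) : i = j := by
  obtain ⟨a, rfl⟩ := hi
  obtain ⟨b, hb⟩ := hj
  exact (congrArg Sigma.fst ((sigmaι_eq_iff _ _ _ _ _).1 hb)).symm

theorem covF_le {V : S.Opens} (hle : ∀ j, U j ≤ f ⁻¹ᵁ V) : (⊤ : (covX U).Opens) ≤ covF f U ⁻¹ᵁ V := fun y _ => by
  obtain ⟨j, hj⟩ := covR_cover y
  rw [Scheme.Hom.mem_preimage, Scheme.Hom.comp_apply]
  exact hle j (covU_mem hj)

theorem isAffine_covX (hU : ∀ j, IsAffineOpen (U j)) : IsAffine (covX U) := by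
  haveI : ∀ j, IsAffine (U j).toScheme := hU
  infer_instance

theorem isAffineOpen_base (hU : ∀ j, IsAffineOpen (U j)) {V : S.Opens} (hV : IsAffineOpen V)
    (hle : ∀ j, U j ≤ f ⁻¹ᵁ V) : IsAffineOpen (bse (covF f U) d ⁻¹ᵁ V) := by
  haveI := isAffine_covX hU
  have h := Groth.L16.SymProd.isAffineOpen_box (covF f U) d (isAffineOpen_top (covX U)) hV (covF_le hle)
  rwa [show Groth.L16.SymProd.box (covF f U) d ⊤ V = bse (covF f U) d ⁻¹ᵁ V by
    ext p
    simp [Groth.L16.SymProd.mem_box]] at h

theorem stable_bse (V : S.Opens) : Stable f d (bse f d ⁻¹ᵁ V) := fun g p hp => by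
  rw [Scheme.Hom.mem_preimage, Scheme.Hom.mem_preimage, ← Scheme.Hom.comp_apply, mv_bse]
  exact hp

variable (f U) in
/-- The component of the fibre power of the disjoint union belonging to `κ`. -/
abbrev covE (V : S.Opens) (κ : Fin d → J) : (SymProd.fibPow (covF f U) d).Opens :=
  boxF (covF f U) d V fun i => covR U (κ i)

variable {V : S.Opens} {κ : Fin d → J}

/-- The component maps isomorphically onto the box. -/
theorem isOpenImmersion_comp :
    IsOpenImmersion ((covE f U V κ).ι ≫ cmap (covF f U) (covU U) rfl) ∧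
      Set.range ((covE f U V κ).ι ≫ cmap (covF f U) (covU U) rfl).base =
        (boxF f d V fun i => U (κ i) : Set ↥(SymProd.fibPow f d)) := by
  let E := covE f U V κ
  let B := boxF f d V fun i => U (κ i)
  let c := cmap (d := d) (covF f U) (covU U) rfl
  have hcE : Set.range (E.ι ≫ c).base ⊆ Set.range B.ι.base := by
    rintro _ ⟨p, rfl⟩
    rw [Scheme.Opens.range_ι, SetLike.mem_coe, mem_boxF]
    have hp := mem_boxF.1 p.2
    refine ⟨?_, fun i => ?_⟩
    · rw [← Scheme.Hom.comp_apply, Category.assoc, SymProd.fibPowMap_base]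
      exact hp.1
    · rw [← Scheme.Hom.comp_apply, Category.assoc, SymProd.fibPowMap_π, Scheme.Hom.comp_apply,
        Scheme.Hom.comp_apply]
      exact covU_mem (hp.2 i)
  have hBU : ∀ i, Set.range (B.ι ≫ prj f d i).base ⊆ Set.range (U (κ i)).ι.base := by
    rintro i _ ⟨p, rfl⟩
    rw [Scheme.Opens.range_ι]
    exact (mem_boxF.1 p.2).2 i
  let lift0 : B.toScheme ⟶ SymProd.fibPow (covF f U) d :=
    WidePullback.lift (B.ι ≫ bse f d)
      (fun i => IsOpenImmersion.lift (U (κ i)).ι _ (hBU i) ≫ Sigma.ι (fun j => (U j).toScheme) (κ i))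
      (fun i => by
        rw [Category.assoc, Sigma.ι_desc_assoc, IsOpenImmersion.lift_fac_assoc, Category.assoc,
          WidePullback.π_arrow])
  have hl : Set.range lift0.base ⊆ Set.range E.ι.base := by
    rintro _ ⟨p, rfl⟩
    rw [Scheme.Opens.range_ι, SetLike.mem_coe, mem_boxF]
    refine ⟨?_, fun i => ?_⟩
    · rw [← Scheme.Hom.comp_apply, WidePullback.lift_base]
      exact (mem_boxF.1 p.2).1
    · rw [← Scheme.Hom.comp_apply, WidePullback.lift_π, Scheme.Hom.comp_apply]
      exact ⟨_, rfl⟩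
  let r : E.toScheme ⟶ B.toScheme := IsOpenImmersion.lift B.ι _ hcE
  let s : B.toScheme ⟶ E.toScheme := IsOpenImmersion.lift E.ι _ hl
  have hsr : s ≫ r = 𝟙 _ := by
    rw [← cancel_mono B.ι, Category.assoc, IsOpenImmersion.lift_fac, Category.id_comp,
      IsOpenImmersion.lift_fac_assoc]
    apply WidePullback.hom_ext
    · intro i
      dsimp only [c, lift0]
      rw [Category.assoc, SymProd.fibPowMap_π, WidePullback.lift_π_assoc, Category.assoc, Sigma.ι_desc,
        IsOpenImmersion.lift_fac]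
    · dsimp only [c, lift0]
      rw [Category.assoc, SymProd.fibPowMap_base, WidePullback.lift_base]
  have hrs : r ≫ s = 𝟙 _ := by
    rw [← cancel_mono E.ι, Category.assoc, IsOpenImmersion.lift_fac, Category.id_comp]
    apply WidePullback.hom_ext
    · intro i
      dsimp only [lift0]
      rw [Category.assoc, WidePullback.lift_π]
      have hfac : Set.range (E.ι ≫ prj (covF f U) d i).base ⊆
          Set.range (Sigma.ι (fun j => (U j).toScheme) (κ i)).base := by
        rintro _ ⟨p, rfl⟩
        exact (mem_boxF.1 p.2).2 i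
      show r ≫ IsOpenImmersion.lift (U (κ i)).ι _ (hBU i) ≫ Sigma.ι (fun j => (U j).toScheme) (κ i) = E.ι ≫ prj (covF f U) d i
      rw [← IsOpenImmersion.lift_fac (Sigma.ι (fun j => (U j).toScheme) (κ i)) _ hfac, ← Category.assoc]
      congr 1
      rw [← cancel_mono (U (κ i)).ι, Category.assoc, IsOpenImmersion.lift_fac, IsOpenImmersion.lift_fac_assoc]
      have h1 : IsOpenImmersion.lift (Sigma.ι (fun j => (U j).toScheme) (κ i)) _ hfac ≫ (U (κ i)).ι =
          E.ι ≫ prj (covF f U) d i ≫ covU U := by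
        have h2 := congrArg (· ≫ covU U) (IsOpenImmersion.lift_fac (Sigma.ι (fun j => (U j).toScheme) (κ i)) _ hfac)
        simp only [Category.assoc] at h2
        rw [← h2, Sigma.ι_desc]
      rw [h1, Category.assoc, SymProd.fibPowMap_π]
    · dsimp only [lift0]
      rw [Category.assoc, WidePullback.lift_base, IsOpenImmersion.lift_fac_assoc, Category.assoc,
        SymProd.fibPowMap_base]
  haveI : IsIso r := ⟨s, hrs, hsr⟩
  have hfac : r ≫ B.ι = E.ι ≫ c := IsOpenImmersion.lift_fac _ _ _
  refine ⟨hfac ▸ inferInstance, ?_⟩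
  rw [← hfac, Scheme.Hom.comp_base, TopCat.coe_comp, Set.range_comp]
  have hs : Function.Surjective r.base := (Scheme.homeoOfIso (asIso r)).surjective
  rw [Set.range_eq_univ.2 hs, Set.image_univ, Scheme.Opens.range_ι]

end Cov

end Groth.L22.SymQuot
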