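import Groth.Agent.L22.SymQuot.Span
import Groth.Agent.L22.SymQuot.Box
import Groth.Agent.L18.SymPowAffine
import Mathlib.AlgebraicGeometry.Morphisms.Flat

/-!
# Symmetric invariants on the fibre power of an affine scheme
-/

set_option autoImplicit false
set_option linter.style.haveILetI false
set_option backward.isDefEq.respectTransparency false

universe u

open CategoryTheory CategoryTheory.Limits AlgebraicGeometry TopologicalSpace
open scoped TensorProduct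

noncomputable section

namespace Groth.L22.SymQuot

variable {X₁ S : Scheme.{u}} [IsAffine X₁] (f₁ : X₁ ⟶ S) {d : ℕ} {V : S.Opens}
  (hV : IsAffineOpen V) (hle : (⊤ : X₁.Opens) ≤ f₁ ⁻¹ᵁ V)

theorem base_eq_box : bse f₁ d ⁻¹ᵁ V = Groth.L16.SymProd.box f₁ d ⊤ V := by
  ext p
  simp [Groth.L16.SymProd.mem_box]

include hle hV in
theorem isAffineOpen_base' : IsAffineOpen (bse f₁ d ⁻¹ᵁ V) :=
  (base_eq_box f₁ (d := d) (V := V)).symm ▸ Groth.L16.SymProd.isAffineOpen_box f₁ d (isAffineOpen_top X₁) hV hle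

theorem smulComm_base {X : Scheme.{u}} {f : X ⟶ S} {W : (SymProd.fibPow f d).Opens} (hWs : Stable f d W)
    (hWV : W ≤ bse f d ⁻¹ᵁ V) :
    letI := actOn hWs
    letI : Algebra Γ(S, V) Γ(SymProd.fibPow f d, W) := ((bse f d).appLE V W hWV).hom.toAlgebra
    SMulCommClass (GP.{u} d) Γ(S, V) Γ(SymProd.fibPow f d, W) := by
  letI := actOn hWs
  letI : Algebra Γ(S, V) Γ(SymProd.fibPow f d, W) := ((bse f d).appLE V W hWV).hom.toAlgebra
  refine ⟨fun g r b => ?_⟩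
  show ((mv f d g).appLE W W (hWs g)).hom (((bse f d).appLE V W hWV).hom r * b) =
    ((bse f d).appLE V W hWV).hom r * ((mv f d g).appLE W W (hWs g)).hom b
  rw [map_mul, ← CommRingCat.comp_apply ((bse f d).appLE V W hWV), Scheme.Hom.appLE_comp_appLE,
    Groth.L27.Quot.appLE_eq_of_eq (mv_bse f d g)]

include hle hV in
/-- The invariants are flat over a flat base. -/
theorem flat_invariants_base [Flat f₁] :
    letI := actOn (stable_bse (f := f₁) (d := d) V)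
    letI : Algebra Γ(S, V) Γ(SymProd.fibPow f₁ d, bse f₁ d ⁻¹ᵁ V) :=
      ((bse f₁ d).appLE V _ le_rfl).hom.toAlgebra
    ∀ AT : Subalgebra Γ(S, V) Γ(SymProd.fibPow f₁ d, bse f₁ d ⁻¹ᵁ V),
      (∀ t, t ∈ AT ↔ ∀ g : GP.{u} d, g • t = t) → Module.Flat Γ(S, V) AT := by
  letI := actOn (stable_bse (f := f₁) (d := d) V)
  letI : Algebra Γ(S, V) Γ(SymProd.fibPow f₁ d, bse f₁ d ⁻¹ᵁ V) :=
    ((bse f₁ d).appLE V _ le_rfl).hom.toAlgebra
  intro AT hAT
  letI := (f₁.appLE V ⊤ hle).hom.toAlgebra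
  obtain ⟨φ, hφa, -, hφσ⟩ := Groth.L18.SymPow.exists_boxRingEquiv f₁ hV (isAffineOpen_top X₁) hle
    (isAffineOpen_base' f₁ hV hle) (base_eq_box f₁ (d := d) (V := V))
  haveI : Module.Flat Γ(S, V) Γ(X₁, ⊤) := Flat.flat_appLE f₁ hV (isAffineOpen_top X₁) hle
  haveI := Groth.L22.Gamma.flat_TS_of_flat (A := Γ(S, V)) (B := Γ(X₁, ⊤)) d
  let φₐ : (⨂[↑Γ(S, V)] _ : Fin d, ↑Γ(X₁, ⊤)) ≃ₐ[↑Γ(S, V)] Γ(SymProd.fibPow f₁ d, bse f₁ d ⁻¹ᵁ V) :=
    AlgEquiv.ofRingEquiv (f := φ) hφa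
  have key : (SymTen.TS ↑Γ(S, V) ↑Γ(X₁, ⊤) d).map φₐ.toAlgHom = AT := by
    ext s
    rw [hAT]
    constructor
    · rintro ⟨t, ht, rfl⟩ g
      show ((SymProd.permHom f₁ d g.down.symm).appLE _ _ _).hom (φ t) = φ t
      rw [hφσ g.down.symm t, SymTen.perm_apply, Equiv.symm_symm]
      exact congrArg φ (SymTen.mem_TS_iff _ _ _ _ |>.1 ht g.down)
    · intro hs
      refine ⟨φₐ.symm s, ?_, φₐ.apply_symm_apply s⟩
      show φₐ.symm s ∈ SymTen.TS ↑Γ(S, V) ↑Γ(X₁, ⊤) d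
      rw [SymTen.mem_TS_iff]
      intro σ
      apply φ.injective
      have h1 := hs ⟨σ⟩
      change ((SymProd.permHom f₁ d σ.symm).appLE _ _ _).hom s = s at h1
      rw [← SymTen.perm_apply]
      conv_rhs => rw [show φ (φₐ.symm s) = s from φₐ.apply_symm_apply s, ← h1]
      conv_rhs => rw [show s = φ (φₐ.symm s) from (φₐ.apply_symm_apply s).symm, hφσ σ.symm, Equiv.symm_symm]
  exact key ▸ Module.Flat.of_linearEquiv
    ((SymTen.TS ↑Γ(S, V) ↑Γ(X₁, ⊤) d).equivMapOfInjective φₐ.toAlgHom φₐ.injective).toLinearEquiv.symm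

/-- The map between fibre powers over a change of base. -/
abbrev hmap {X S' X' : Scheme.{u}} (f : X ⟶ S) (f' : X' ⟶ S') (u : X' ⟶ X) (gS : S' ⟶ S)
    (sq : u ≫ f = f' ≫ gS) (d : ℕ) : SymProd.fibPow f' d ⟶ SymProd.fibPow f d :=
  WidePullback.lift (bse f' d ≫ gS) (fun i => prj f' d i ≫ u)
    (fun i => by rw [Category.assoc, sq, ← Category.assoc, WidePullback.π_arrow])

theorem mv_hmap {X S' X' : Scheme.{u}} (f : X ⟶ S) (f' : X' ⟶ S') (u : X' ⟶ X) (gS : S' ⟶ S)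
    (sq : u ≫ f = f' ≫ gS) (g : GP.{u} d) :
    mv f' d g ≫ hmap f f' u gS sq d = hmap f f' u gS sq d ≫ mv f d g := by
  apply WidePullback.hom_ext
  · intro i; simp
  · simp

include hle hV in
/-- Invariants on the fibre power of a closed subscheme of a base change are spanned by invariants. -/
theorem mem_Sp_base {S' X₁' : Scheme.{u}} [IsAffine X₁'] (f₁' : X₁' ⟶ S') (u : X₁' ⟶ X₁) (gS : S' ⟶ S)
    (sq : u ≫ f₁ = f₁' ≫ gS) {V' : S'.Opens} (hV' : IsAffineOpen V')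
    (hle' : (⊤ : X₁'.Opens) ≤ f₁' ⁻¹ᵁ V')
    (e : bse f₁' d ⁻¹ᵁ V' ≤ hmap f₁ f₁' u gS sq d ⁻¹ᵁ (bse f₁ d ⁻¹ᵁ V))
    (hspan : letI := (f₁'.appLE V' ⊤ hle').hom.toAlgebra
      Submodule.span Γ(S', V') (Set.range u.appTop.hom) = ⊤)
    (h : Flat f₁' ∨ IsUnit ((d.factorial : ℕ) : Γ(S', V'))) :
    letI := actOn (stable_bse (f := f₁') (d := d) V')
    letI := actOn (stable_bse (f := f₁) (d := d) V)
    ∀ s : Γ(SymProd.fibPow f₁' d, bse f₁' d ⁻¹ᵁ V'), (∀ g : GP.{u} d, g • s = s) →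
      s ∈ Sp ((hmap f₁ f₁' u gS sq d).appLE _ _ e).hom ((bse f₁' d).appLE V' _ le_rfl).hom
        fun b => ∀ g : GP.{u} d, g • b = b := by
  letI := actOn (stable_bse (f := f₁') (d := d) V')
  letI := actOn (stable_bse (f := f₁) (d := d) V)
  intro s hs
  letI : Algebra Γ(S', V') Γ(X₁', ⊤) := (f₁'.appLE V' ⊤ hle').hom.toAlgebra
  letI : Algebra Γ(S, V) Γ(X₁, ⊤) := (f₁.appLE V ⊤ hle).hom.toAlgebra
  obtain ⟨φ', hφa', hφs', hφσ'⟩ := Groth.L18.SymPow.exists_boxRingEquiv f₁' hV' (isAffineOpen_top X₁') hle'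
    (isAffineOpen_base' f₁' hV' hle') (base_eq_box f₁' (d := d) (V := V'))
  obtain ⟨φ, hφa, hφs, hφσ⟩ := Groth.L18.SymPow.exists_boxRingEquiv f₁ hV (isAffineOpen_top X₁) hle
    (isAffineOpen_base' f₁ hV hle) (base_eq_box f₁ (d := d) (V := V))
  have ht : φ'.symm s ∈ Groth.L22.Gamma.symT Γ(S', V') Γ(X₁', ⊤) d := by
    intro σ
    apply φ'.injective
    have h1 := hs ⟨σ⟩
    change ((SymProd.permHom f₁' d σ.symm).appLE _ _ _).hom s = s at h1
    rw [← φ'.apply_symm_apply s, hφσ' σ.symm, Equiv.symm_symm, SymTen.perm_apply] at h1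
    exact h1
  have hflat : Module.Flat Γ(S', V') Γ(X₁', ⊤) ∨ IsUnit ((d.factorial : ℕ) : Γ(S', V')) :=
    h.imp_left fun h => @Flat.flat_appLE _ _ f₁' h _ hV' _ (isAffineOpen_top X₁') hle'
  have h2 := symT_le_span_of_flat_or_isUnit (R := Γ(S', V')) (M := Γ(X₁', ⊤)) (d := d) u.appTop.hom hspan hflat ht
  rw [← φ'.apply_symm_apply s]
  generalize φ'.symm s = t at h2
  let hh := ((hmap f₁ f₁' u gS sq d).appLE _ _ e).hom
  have hgen : ∀ c : Fin d → Γ(X₁, ⊤), φ' (PiTensorProduct.tprod _ fun k => u.appTop.hom (c k)) =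
      hh (φ (PiTensorProduct.tprod _ c)) := by
    intro c
    have e1 : ∀ (A B : Type u) [CommRing A] [CommRing B] [Algebra A B] (v : Fin d → B),
        PiTensorProduct.tprod A v = ∏ i, (PiTensorProduct.singleAlgHom (R := A) (A := fun _ : Fin d => B) i (v i)) := by
      intro A B _ _ _ v
      simp only [PiTensorProduct.singleAlgHom_apply, MonoidHom.mulSingle_apply]
      rw [← PiTensorProduct.tprod_prod]
      congr 1
      funext k
      simp
    rw [e1, e1, map_prod, map_prod, map_prod]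
    refine Finset.prod_congr rfl fun i _ => ?_
    rw [hφs', hφs]
    rw [show u.appTop = u.appLE ⊤ ⊤ le_top from Scheme.Hom.app_eq_appLE u]
    show (u.appLE ⊤ ⊤ le_top ≫ (prj f₁' d i).appLE ⊤ _ _).hom (c i) =
      ((prj f₁ d i).appLE ⊤ _ _ ≫ (hmap f₁ f₁' u gS sq d).appLE _ _ e).hom (c i)
    rw [Scheme.Hom.appLE_comp_appLE, Scheme.Hom.appLE_comp_appLE]
    rw [Groth.L27.Quot.appLE_eq_of_eq
      (show prj f₁' d i ≫ u = hmap f₁ f₁' u gS sq d ≫ prj f₁ d i by simp)]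
  have hsym : ∀ ν, φ' (Groth.L22.Gamma.sym Γ(S', V') d u.appTop.hom ν) =
      hh (φ (Groth.L22.Gamma.sym Γ(S, V) d id ν)) := by
    intro ν
    simp only [Groth.L22.Gamma.sym, map_sum]
    exact Finset.sum_congr rfl fun c _ => hgen c
  have hinv : ∀ ν (g : GP.{u} d), g • φ (Groth.L22.Gamma.sym Γ(S, V) d id ν) =
      φ (Groth.L22.Gamma.sym Γ(S, V) d id ν) := by
    intro ν g
    show ((SymProd.permHom f₁ d g.down.symm).appLE _ _ _).hom (φ _) = φ _
    rw [hφσ g.down.symm, Equiv.symm_symm, SymTen.perm_apply]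
    exact congrArg φ (Groth.L22.Gamma.sym_mem _ ν g.down)
  induction h2 using Submodule.span_induction with
  | mem t ht =>
    obtain ⟨ν, rfl⟩ := ht
    rw [hsym, ← one_mul (hh _), ← map_one ((bse f₁' d).appLE V' _ le_rfl).hom]
    exact mem_Sp _ _ 1 _ (hinv ν)
  | zero => rw [map_zero]; exact zero_mem _
  | add x y _ _ hx hy => rw [map_add]; exact add_mem hx hy
  | smul r x _ hx =>
    rw [Algebra.smul_def, map_mul, hφa', ← mul_one ((((bse f₁' d).appLE V' _ _).hom r)),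
      ← map_one hh]
    exact mul_mem_Sp _ _ r 1 (fun b hb => by rw [one_mul]; exact hb) hx

end Groth.L22.SymQuot
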