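import Groth.Agent.L22.SymQuot.Cover
import Groth.Agent.L22.SymQuot.Power

/-!
# Charts of fibre powers at a point, adapted to its inertia
-/

set_option autoImplicit false
set_option linter.style.haveILetI false
set_option linter.unusedSectionVars false
set_option backward.isDefEq.respectTransparency false

universe u

open CategoryTheory CategoryTheory.Limits AlgebraicGeometry TopologicalSpace

noncomputable section

namespace Groth.L22.SymQuot

variable {X S : Scheme.{u}} {f : X ⟶ S} {d : ℕ}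

theorem appLE_congr_apply {P Q : Scheme.{u}} {g g' : Q ⟶ P} (h : g = g') {A : P.Opens} {D : Q.Opens}
    (e : D ≤ g ⁻¹ᵁ A) (x : Γ(P, A)) : (g.appLE A D e).hom x = (g'.appLE A D (h ▸ e)).hom x := by
  subst h; rfl

theorem appLE_appLE_apply {P Q R : Scheme.{u}} (g : R ⟶ Q) (g' : Q ⟶ P) {A : P.Opens} {B : Q.Opens}
    {D : R.Opens} (e1 : B ≤ g' ⁻¹ᵁ A) (e2 : D ≤ g ⁻¹ᵁ B) (x : Γ(P, A)) :
    (g.appLE B D e2).hom ((g'.appLE A B e1).hom x) =
      ((g ≫ g').appLE A D (le_trans e2 (g.preimage_mono e1))).hom x := by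
  rw [← CommRingCat.comp_apply, Scheme.Hom.appLE_comp_appLE]

theorem preimage_basicOpen_inv {W : (SymProd.fibPow f d).Opens} (hWs : Stable f d W) (g : GP.{u} d)
    (v : Γ(SymProd.fibPow f d, W)) (hv : ((mv f d g).appLE W W (hWs g)).hom v = v) :
    (SymProd.fibPow f d).basicOpen v ≤ mv f d g ⁻¹ᵁ (SymProd.fibPow f d).basicOpen v := by
  intro p hp
  rw [← hv, Scheme.basicOpen_appLE] at hp
  exact hp.2

variable {V : S.Opens} (hV : IsAffineOpen V) {W : (SymProd.fibPow f d).Opens} (hW : IsAffineOpen W)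
  (hWs : Stable f d W) (hWV : W ≤ bse f d ⁻¹ᵁ V) {k : Type u} [Field k] (φ : Γ(SymProd.fibPow f d, W) →+* k)

include hV hW hWV in
/-- A chart at a point: affine opens, one for each component point, and a common basic open. -/
theorem exists_chart :
    letI := actOn hWs
    ∃ (J : Type u) (_ : Finite J) (U : J → X.Opens) (_ : ∀ j, IsAffineOpen (U j)) (_ : ∀ j, U j ≤ f ⁻¹ᵁ V)
      (κ : Fin d → J),
      (∀ g : GP.{u} d, g ∈ (RingHom.ker φ).inertia (GP.{u} d) ↔ ∀ i, κ (g.down i) = κ i) ∧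
      letI := actOn (stable_bse (f := covF f U) (d := d) V)
      ∃ (v : Γ(SymProd.fibPow f d, W)) (v2 : Γ(SymProd.fibPow (covF f U) d, bse (covF f U) d ⁻¹ᵁ V)),
        (∀ h : (RingHom.ker φ).inertia (GP.{u} d), h • v = v) ∧ φ v ≠ 0 ∧
        (∀ g : GP.{u} d, g ∈ (RingHom.ker φ).inertia (GP.{u} d) → g • v2 = v2) ∧
        (SymProd.fibPow (covF f U) d).basicOpen v2 ≤ covE f U V κ ∧
        Set.range (((SymProd.fibPow (covF f U) d).basicOpen v2).ι ≫ cmap (covF f U) (covU U) rfl).base =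
          ((SymProd.fibPow f d).basicOpen v : Set ↥(SymProd.fibPow f d)) := by
  classical
  letI := actOn hWs
  let ξ := pt hW φ
  let J : Type u := {x : Spec (CommRingCat.of k) ⟶ X // x ∈ Set.range fun i => ξ ≫ prj f d i}
  haveI : Finite J := (Set.finite_range fun i => ξ ≫ prj f d i).to_subtype
  let κ : Fin d → J := fun i => ⟨ξ ≫ prj f d i, i, rfl⟩
  have hpV : (bse f d).base (pnt hW φ) ∈ V := hWV (pnt_mem hW φ)
  have hexU : ∀ j : J, ∃ U : X.Opens, IsAffineOpen U ∧ j.1.base (IsLocalRing.closedPoint k) ∈ U ∧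
      U ≤ f ⁻¹ᵁ V := fun j => by
    obtain ⟨i, hi⟩ := j.2
    obtain ⟨U, hU, hxU, hUV⟩ := exists_isAffineOpen_mem_and_subset (X := X) (U := f ⁻¹ᵁ V)
      (x := j.1.base (IsLocalRing.closedPoint k)) (by
        rw [Scheme.Hom.mem_preimage, ← Scheme.Hom.comp_apply, ← hi]
        simp only [Category.assoc, WidePullback.π_arrow]
        exact hpV)
    exact ⟨U, hU, hxU, hUV⟩
  choose U hU hxU hle using hexU
  have hκH : ∀ g : GP.{u} d, g ∈ (RingHom.ker φ).inertia (GP.{u} d) ↔ ∀ i, κ (g.down i) = κ i := fun g => by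
    rw [mem_inertia_iff hW φ hWs g]
    exact forall_congr' fun i => (Subtype.ext_iff (a1 := κ (g.down i)) (a2 := κ i)).symm
  let f1 := covF f U
  let c := cmap (d := d) f1 (covU U) rfl
  let E := covE f U V κ
  let Bx := boxF f d V fun i => U (κ i)
  obtain ⟨hoi, hrange⟩ := isOpenImmersion_comp (f := f) (U := U) (V := V) (κ := κ)
  have hpB : pnt hW φ ∈ Bx := mem_boxF.2 ⟨hpV, fun i => hxU (κ i)⟩
  let H := (RingHom.ker φ).inertia (GP.{u} d)
  obtain ⟨v0, hv0, hv0φ, hv0B⟩ := exists_invariant_basicOpen hW φ hWs H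
    (fun g hg => (mem_inertia_iff hW φ hWs g).1 hg) Bx hpB
  -- lift of the point
  let l : ∀ j : J, Spec (CommRingCat.of k) ⟶ (U j).toScheme := fun j => IsOpenImmersion.lift (U j).ι j.1 (by
    rintro _ ⟨p, rfl⟩
    rw [Scheme.Opens.range_ι, Subsingleton.elim p (IsLocalRing.closedPoint k)]
    exact hxU j)
  have hl : ∀ j, l j ≫ (U j).ι = j.1 := fun j => IsOpenImmersion.lift_fac _ _ _
  let ξ' : Spec (CommRingCat.of k) ⟶ SymProd.fibPow f1 d :=
    WidePullback.lift (ξ ≫ bse f d) (fun i => l (κ i) ≫ Sigma.ι (fun j => (U j).toScheme) (κ i))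
      (fun i => by
        rw [Category.assoc, Sigma.ι_desc_assoc, ← Category.assoc, hl]
        show (ξ ≫ prj f d i) ≫ f = _
        rw [Category.assoc, WidePullback.π_arrow])
  have hξ' : ξ' ≫ c = ξ := by
    apply WidePullback.hom_ext
    · intro i
      rw [Category.assoc, SymProd.fibPowMap_π, WidePullback.lift_π_assoc, Category.assoc, Sigma.ι_desc, hl]
    · rw [Category.assoc, SymProd.fibPowMap_base, WidePullback.lift_base]
  let QW := bse f1 d ⁻¹ᵁ V
  have hQW : IsAffineOpen QW := isAffineOpen_base hU hV hle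
  have hξE : ξ'.base (IsLocalRing.closedPoint k) ∈ E := by
    rw [mem_boxF]
    refine ⟨?_, fun i => ?_⟩
    · rw [← Scheme.Hom.comp_apply, WidePullback.lift_base]; exact hpV
    · rw [← Scheme.Hom.comp_apply, WidePullback.lift_π, Scheme.Hom.comp_apply]
      exact ⟨_, rfl⟩
  obtain ⟨φ', hφ'⟩ : ∃ φ' : Γ(SymProd.fibPow f1 d, QW) →+* k, pt hQW φ' = ξ' := by
    have hr : Set.range ξ'.base ⊆ Set.range hQW.fromSpec.base := by
      rintro _ ⟨p, rfl⟩
      rw [hQW.range_fromSpec, Subsingleton.elim p (IsLocalRing.closedPoint k)]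
      exact (mem_boxF.1 hξE).1
    refine ⟨(Spec.preimage (IsOpenImmersion.lift hQW.fromSpec ξ' hr)).hom, ?_⟩
    show Spec.map (Spec.preimage _) ≫ hQW.fromSpec = ξ'
    rw [Spec.map_preimage, IsOpenImmersion.lift_fac]
  have hfix : ∀ g ∈ H, ∀ i, pt hQW φ' ≫ prj f1 d (g.down i) = pt hQW φ' ≫ prj f1 d i := fun g hg i => by
    rw [hφ', WidePullback.lift_π, WidePullback.lift_π, (hκH g).1 hg i]
  let D0 := E ⊓ c ⁻¹ᵁ (SymProd.fibPow f d).basicOpen v0
  have hpD0 : pnt hQW φ' ∈ D0 := by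
    show (pt hQW φ').base _ ∈ D0
    rw [hφ']
    refine ⟨hξE, ?_⟩
    show c.base (ξ'.base _) ∈ (SymProd.fibPow f d).basicOpen v0
    rw [← Scheme.Hom.comp_apply, hξ']
    exact (pnt_mem_basicOpen hW φ v0).2 hv0φ
  letI := actOn (stable_bse (f := f1) (d := d) V)
  obtain ⟨v2, hv2, hv2φ, hv2D⟩ := exists_invariant_basicOpen hQW φ' (stable_bse V) H hfix D0 hpD0
  have hD0E : D0 ≤ E := inf_le_left
  haveI := hoi
  haveI : IsOpenImmersion (D0.ι ≫ c) := by
    rw [← Scheme.homOfLE_ι _ hD0E, Category.assoc]; infer_instance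
  have hr0 : Set.range (D0.ι ≫ c).base = ((SymProd.fibPow f d).basicOpen v0 : Set _) := by
    ext o
    constructor
    · rintro ⟨p, rfl⟩; exact p.2.2
    · intro ho
      have ho' : o ∈ Set.range (E.ι ≫ c).base := hrange.symm ▸ hv0B ho
      obtain ⟨p, rfl⟩ := ho'
      exact ⟨⟨p.1, p.2, ho⟩, rfl⟩
  have e0 : D0 ≤ c ⁻¹ᵁ W := fun p hp => (SymProd.fibPow f d).basicOpen_le v0 hp.2
  have hl0 := isLoc_appLE c hW v0 D0 hr0 e0
  have hD0Q : D0 ≤ QW := fun p hp => (mem_boxF.1 hp.1).1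
  -- stability
  have hEst : ∀ h : H, E ≤ mv f1 d h.1 ⁻¹ᵁ E := fun h p hp => by
    rw [Scheme.Hom.mem_preimage, mem_boxF]
    refine ⟨?_, fun i => ?_⟩
    · rw [← Scheme.Hom.comp_apply, mv_bse]; exact (mem_boxF.1 hp).1
    · rw [← Scheme.Hom.comp_apply, mv_prj, ← (hκH _).1 h.2 i]; exact (mem_boxF.1 hp).2 _
  have hD0st : ∀ h : H, D0 ≤ mv f1 d h.1 ⁻¹ᵁ D0 := fun h p hp => by
    refine ⟨hEst h hp.1, ?_⟩
    show c.base ((mv f1 d h.1).base p) ∈ (SymProd.fibPow f d).basicOpen v0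
    rw [← Scheme.Hom.comp_apply, mv_cmap, Scheme.Hom.comp_apply]
    exact preimage_basicOpen_inv hWs h.1 v0 (hv0 h) hp.2
  let τ : H → Γ(SymProd.fibPow f1 d, D0) →+* Γ(SymProd.fibPow f1 d, D0) := fun h =>
    ((mv f1 d h.1).appLE D0 D0 (hD0st h)).hom
  let res : Γ(SymProd.fibPow f1 d, QW) →+* Γ(SymProd.fibPow f1 d, D0) :=
    ((SymProd.fibPow f1 d).presheaf.map (homOfLE hD0Q).op).hom
  have hτ : ∀ (h : H) b, τ h ((c.appLE W D0 e0).hom b) = (c.appLE W D0 e0).hom (h • b) := fun h b => by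
    show _ = (c.appLE W D0 e0).hom (((mv f d h.1).appLE W W (hWs h.1)).hom b)
    rw [appLE_appLE_apply, appLE_appLE_apply, appLE_congr_apply (mv_cmap f1 (covU U) rfl h.1)]
  have hτres : ∀ h : H, τ h (res v2) = res v2 := fun h => by
    show ((SymProd.fibPow f1 d).presheaf.map _ ≫ (mv f1 d h.1).appLE D0 D0 _).hom v2 = _
    rw [Scheme.Hom.map_appLE]
    conv_rhs => rw [← hv2 h]
    show _ = ((mv f1 d h.1).appLE QW QW _ ≫ (SymProd.fibPow f1 d).presheaf.map _).hom v2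
    rw [Scheme.Hom.appLE_map]
  obtain ⟨n, b, hb, hbe⟩ := exists_invariant_num H hl0 hv0 τ hτ (res v2) hτres
  refine ⟨J, inferInstance, U, hU, hle, κ, hκH, v0 * b, v2, fun h => by rw [smul_mul', hv0 h, hb h],
    ?_, fun g hg => hv2 ⟨g, hg⟩, hv2D.trans inf_le_left, ?_⟩
  · have hmem : ξ'.base (IsLocalRing.closedPoint k) ∈ (SymProd.fibPow f1 d).basicOpen v2 := by
      have := (pnt_mem_basicOpen hQW φ' v2).2 hv2φ
      rwa [pnt, hφ'] at this
    rw [map_mul]
    refine mul_ne_zero hv0φ ((pnt_mem_basicOpen hW φ b).1 ?_)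
    have h1 : ξ'.base (IsLocalRing.closedPoint k) ∈ (SymProd.fibPow f1 d).basicOpen ((c.appLE W D0 e0).hom b) := by
      rw [← hbe]
      have hu := (SymProd.fibPow f1 d).basicOpen_of_isUnit (hl0.unit.pow n)
      rw [Scheme.basicOpen_mul, hu, Scheme.basicOpen_res]
      exact ⟨⟨hv2D hmem, hmem⟩, hv2D hmem⟩
    rw [Scheme.basicOpen_appLE] at h1
    show ξ.base _ ∈ _
    rw [← hξ', Scheme.Hom.comp_apply]
    exact h1.2
  · ext o
    rw [SetLike.mem_coe, Scheme.basicOpen_mul]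
    have key : ∀ p : ↥(SymProd.fibPow f1 d), p ∈ D0 →
        (p ∈ (SymProd.fibPow f1 d).basicOpen v2 ↔ c.base p ∈ (SymProd.fibPow f d).basicOpen b) := by
      intro p hp
      have h2 : (SymProd.fibPow f1 d).basicOpen (res v2 * (c.appLE W D0 e0).hom v0 ^ n) =
          (SymProd.fibPow f1 d).basicOpen ((c.appLE W D0 e0).hom b) := congrArg _ hbe
      rw [Scheme.basicOpen_mul, (SymProd.fibPow f1 d).basicOpen_of_isUnit (hl0.unit.pow n),
        Scheme.basicOpen_res, Scheme.basicOpen_appLE] at h2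
      have h3 := SetLike.ext_iff.1 h2 p
      exact ⟨fun h => (h3.1 ⟨⟨hp, h⟩, hp⟩).2, fun h => (h3.2 ⟨hp, h⟩).1.2⟩
    constructor
    · rintro ⟨p, rfl⟩
      exact ⟨(hv2D p.2).2, (key _ (hv2D p.2)).1 p.2⟩
    · rintro ⟨ho0, hob⟩
      obtain ⟨p, rfl⟩ : o ∈ Set.range (D0.ι ≫ c).base := hr0.symm ▸ ho0
      exact ⟨⟨p.1, (key _ p.2).2 hob⟩, rfl⟩

section Common

variable {J : Type u} [Finite J] (U : J → X.Opens) (κ : Fin d → J) (H : Subgroup (GP.{u} d))
  (v : Γ(SymProd.fibPow f d, W)) (v2 : Γ(SymProd.fibPow (covF f U) d, bse (covF f U) d ⁻¹ᵁ V))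

include hV hW in
/-- The data shared by both sides of a chart. -/
theorem exists_common (hU : ∀ j, IsAffineOpen (U j)) (hle : ∀ j, U j ≤ f ⁻¹ᵁ V)
    (hH : ∀ g : GP.{u} d, g ∈ H ↔ ∀ i, κ (g.down i) = κ i)
    (hv2 : letI := actOn (stable_bse (f := covF f U) (d := d) V); ∀ g ∈ H, g • v2 = v2)
    (hv2E : (SymProd.fibPow (covF f U) d).basicOpen v2 ≤ covE f U V κ)
    (hrange : Set.range (((SymProd.fibPow (covF f U) d).basicOpen v2).ι ≫ cmap (covF f U) (covU U) rfl).base =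
      ((SymProd.fibPow f d).basicOpen v : Set ↥(SymProd.fibPow f d))) :
    letI := actOn hWs
    letI := actOn (stable_bse (f := covF f U) (d := d) V)
    ∃ (eW : (SymProd.fibPow (covF f U) d).basicOpen v2 ≤ cmap (covF f U) (covU U) rfl ⁻¹ᵁ W)
      (hst : ∀ h : H, (SymProd.fibPow (covF f U) d).basicOpen v2 ≤
        mv (covF f U) d h.1 ⁻¹ᵁ (SymProd.fibPow (covF f U) d).basicOpen v2)
      (e : FixedPoints.subring Γ(SymProd.fibPow (covF f U) d, bse (covF f U) d ⁻¹ᵁ V) H),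
      IsLoc ((cmap (covF f U) (covU U) rfl).appLE W _ eW).hom v ∧
      IsLoc ((SymProd.fibPow (covF f U) d).presheaf.map
        (homOfLE ((SymProd.fibPow (covF f U) d).basicOpen_le v2)).op).hom v2 ∧
      ((SymProd.fibPow (covF f U) d).presheaf.map
        (homOfLE ((SymProd.fibPow (covF f U) d).basicOpen_le v2)).op).hom (e : _) = 1 ∧
      e * e = e ∧
      (∀ g : GP.{u} d, g ∉ H → g • (e : Γ(SymProd.fibPow (covF f U) d, bse (covF f U) d ⁻¹ᵁ V)) * (e : _) = 0) ∧
      (∀ (h : H) b, ((mv (covF f U) d h.1).appLE _ _ (hst h)).hom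
          (((cmap (covF f U) (covU U) rfl).appLE W _ eW).hom b) =
        ((cmap (covF f U) (covU U) rfl).appLE W _ eW).hom (h • b)) ∧
      (∀ (h : H) t, ((mv (covF f U) d h.1).appLE _ _ (hst h)).hom
          (((SymProd.fibPow (covF f U) d).presheaf.map
            (homOfLE ((SymProd.fibPow (covF f U) d).basicOpen_le v2)).op).hom t) =
        ((SymProd.fibPow (covF f U) d).presheaf.map
            (homOfLE ((SymProd.fibPow (covF f U) d).basicOpen_le v2)).op).hom (h • t)) := by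
  classical
  letI := actOn hWs
  letI := actOn (stable_bse (f := covF f U) (d := d) V)
  let f1 := covF f U
  let c := cmap (d := d) f1 (covU U) rfl
  let P1 := SymProd.fibPow f1 d
  let QW := bse f1 d ⁻¹ᵁ V
  let D2 := P1.basicOpen v2
  haveI := (isOpenImmersion_comp (f := f) (U := U) (V := V) (κ := κ)).1
  haveI : IsOpenImmersion (D2.ι ≫ c) := by
    rw [← Scheme.homOfLE_ι _ hv2E, Category.assoc]; infer_instance
  have eW : D2 ≤ c ⁻¹ᵁ W := fun p hp => by
    have : c.base p ∈ (SymProd.fibPow f d).basicOpen v := by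
      rw [← SetLike.mem_coe, ← hrange]; exact ⟨⟨p, hp⟩, rfl⟩
    exact (SymProd.fibPow f d).basicOpen_le v this
  have hst : ∀ h : H, D2 ≤ mv f1 d h.1 ⁻¹ᵁ D2 := fun h =>
    preimage_basicOpen_inv (stable_bse V) h.1 v2 (hv2 h.1 h.2)
  choose ε hεε hε using exists_idem hU
  let e0 : Γ(P1, QW) := ∏ i : Fin d, ((prj f1 d i).appLE ⊤ QW le_top).hom (ε (κ i))
  have hsmul : ∀ g : GP.{u} d, g • e0 = ∏ i : Fin d, ((prj f1 d (g.down i)).appLE ⊤ QW le_top).hom (ε (κ i)) := by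
    intro g
    show ((mv f1 d g).appLE QW QW _).hom e0 = _
    rw [map_prod]
    refine Finset.prod_congr rfl fun i _ => ?_
    rw [appLE_appLE_apply, appLE_congr_apply (mv_prj f1 d g i)]
  have heinv : ∀ h : H, h • e0 = e0 := fun h => by
    show (h : GP.{u} d) • e0 = e0
    rw [hsmul]
    refine Eq.trans (Finset.prod_congr rfl fun i _ => ?_)
      (Equiv.prod_comp h.1.down fun i => ((prj f1 d i).appLE ⊤ QW le_top).hom (ε (κ i)))
    rw [(hH _).1 h.2 i]
  have hε0 : ∀ a b, a ≠ b → ε a * ε b = 0 := by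
    intro a b hab
    haveI := isAffine_covX hU
    have hbot : (covX U).basicOpen (ε a * ε b) = ⊥ := by
      rw [Scheme.basicOpen_mul, hε, hε, eq_bot_iff]
      rintro y ⟨h1, h2⟩
      exact hab (covR_unique h1 h2)
    have hnil : IsNilpotent (ε a * ε b) := by
      rw [← PrimeSpectrum.basicOpen_eq_bot_iff, ← (isAffineOpen_top (covX U)).fromSpec_preimage_basicOpen, hbot]
      rfl
    have hidem : IsIdempotentElem (ε a * ε b) := by
      show ε a * ε b * (ε a * ε b) = ε a * ε b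
      rw [mul_mul_mul_comm, hεε, hεε]
    exact hidem.eq_zero_of_isNilpotent hnil
  refine ⟨eW, hst, ⟨e0, heinv⟩, isLoc_appLE c hW v D2 hrange eW, ?_, ?_, ?_, fun g hg => ?_, fun h b => ?_,
    fun h t => ?_⟩
  · haveI := (isAffineOpen_base (f := f) (U := U) (d := d) hU hV hle).isLocalization_basicOpen v2
    exact ⟨IsLocalization.Away.algebraMap_isUnit (S := Γ(P1, D2)) v2,
      fun y => IsLocalization.Away.surj v2 y, fun b hb => by
      obtain ⟨⟨_, n, rfl⟩, hn⟩ := (IsLocalization.map_eq_zero_iff (Submonoid.powers v2) Γ(P1, D2) b).1 hb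
      exact ⟨n, hn⟩⟩
  · show (P1.presheaf.map _).hom e0 = 1
    rw [map_prod]
    refine Finset.prod_eq_one fun i _ => ?_
    show ((prj f1 d i).appLE ⊤ QW le_top ≫ P1.presheaf.map _).hom (ε (κ i)) = 1
    rw [Scheme.Hom.appLE_map]
    refine eq_one_of_idem ?_ (by rw [← map_mul, hεε])
    have hD : D2 ≤ prj f1 d i ⁻¹ᵁ (covX U).basicOpen (ε (κ i)) := fun p hp => by
      rw [Scheme.Hom.mem_preimage, hε]
      exact (mem_boxF.1 (hv2E hp)).2 i
    rw [← Scheme.Hom.map_appLE (prj f1 d i) hD (homOfLE ((covX U).basicOpen_le (ε (κ i)))).op, CommRingCat.comp_apply]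
    exact ((covX U).toRingedSpace.isUnit_res_basicOpen (ε (κ i))).map _
  · apply Subtype.ext
    show e0 * e0 = e0
    rw [← Finset.prod_mul_distrib]
    exact Finset.prod_congr rfl fun i _ => by rw [← map_mul, hεε]
  · show g • e0 * e0 = 0
    rw [hH] at hg
    push Not at hg
    obtain ⟨i, hi⟩ := hg
    rw [hsmul]
    refine eq_zero_of_zero_dvd ?_
    have h0 : ((prj f1 d (g.down i)).appLE ⊤ QW le_top).hom (ε (κ i)) *
        ((prj f1 d (g.down i)).appLE ⊤ QW le_top).hom (ε (κ (g.down i))) = 0 := by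
      rw [← map_mul, hε0 _ _ (Ne.symm hi), map_zero]
    rw [← h0]
    exact mul_dvd_mul
      (Finset.dvd_prod_of_mem (fun i => ((prj f1 d (g.down i)).appLE ⊤ QW le_top).hom (ε (κ i))) (Finset.mem_univ i))
      (Finset.dvd_prod_of_mem (fun i => ((prj f1 d i).appLE ⊤ QW le_top).hom (ε (κ i))) (Finset.mem_univ (g.down i)))
  · show _ = (c.appLE W D2 eW).hom (((mv f d h.1).appLE W W (hWs h.1)).hom b)
    rw [appLE_appLE_apply, appLE_appLE_apply, appLE_congr_apply (mv_cmap f1 (covU U) rfl h.1)]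
  · show ((P1.presheaf.map _) ≫ (mv f1 d h.1).appLE D2 D2 _).hom t =
      ((mv f1 d h.1).appLE QW QW _ ≫ P1.presheaf.map _).hom t
    rw [Scheme.Hom.map_appLE, Scheme.Hom.appLE_map]

end Common

end Groth.L22.SymQuot
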