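import Groth.Agent.L22.SymQuot.Points
import Mathlib.AlgebraicGeometry.Morphisms.ClosedImmersion
import Mathlib.AlgebraicGeometry.Morphisms.Flat

/-!
# Disjoint unions of affine opens: idempotents and generators
-/

set_option autoImplicit false
set_option linter.style.haveILetI false
set_option linter.unusedSectionVars false
set_option backward.isDefEq.respectTransparency false

universe u

open CategoryTheory CategoryTheory.Limits AlgebraicGeometry TopologicalSpace

noncomputable section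

namespace Groth.L22.SymQuot

/-- An idempotent unit is one. -/
theorem eq_one_of_idem {A : Type*} [CommRing A] {e : A} (h : IsUnit e) (he : e * e = e) : e = 1 :=
  h.mul_left_cancel (by rw [he, mul_one])

variable {X S : Scheme.{u}} {J : Type u} [Finite J] {U : J → X.Opens}

/-- The idempotent of a summand. -/
theorem exists_idem (hU : ∀ j, IsAffineOpen (U j)) (j : J) :
    ∃ e : Γ(covX U, ⊤), e * e = e ∧ (covX U).basicOpen e = covR U j := by
  haveI := isAffine_covX hU
  let Z := covX U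
  have hcl : IsClopen (covR U j : Set Z) := by
    refine ⟨⟨?_⟩, (covR U j).isOpen⟩
    have hc : ((covR U j : Set Z))ᶜ = ⋃ i ∈ {i : J | i ≠ j}, (covR U i : Set Z) := by
      ext y
      simp only [Set.mem_compl_iff, SetLike.mem_coe, Set.mem_iUnion, Set.mem_setOf_eq, exists_prop]
      constructor
      · intro hy
        obtain ⟨i, hi⟩ := covR_cover y
        exact ⟨i, fun h => hy (h ▸ hi), hi⟩
      · rintro ⟨i, hi, hyi⟩ hy
        exact hi (covR_unique hyi hy)
    rw [hc]
    exact isOpen_biUnion fun i _ => (covR U i).isOpen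
  have hcl' : IsClopen (Z.isoSpec.inv.base ⁻¹' (covR U j : Set Z)) := hcl.preimage Z.isoSpec.inv.continuous
  obtain ⟨e, he, hs⟩ := PrimeSpectrum.exists_idempotent_basicOpen_eq_of_isClopen hcl'
  refine ⟨e, he, ?_⟩
  ext y
  have h1 : (Z.isoSpec.hom.base y : PrimeSpectrum Γ(Z, ⊤)) ∈ Z.isoSpec.inv.base ⁻¹' (covR U j : Set Z) ↔
      y ∈ covR U j := by
    rw [Set.mem_preimage, ← Scheme.Hom.comp_apply, Iso.hom_inv_id]
    rfl
  rw [SetLike.mem_coe, SetLike.mem_coe, ← h1, hs, ← Scheme.toSpecΓ_preimage_basicOpen]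
  rfl

/-- Sections of a closed subscheme of a base change are generated by sections and scalars. -/
theorem span_sections {S' X' : Scheme.{u}} (f : X ⟶ S) (f' : X' ⟶ S') (u : X' ⟶ X) (gS : S' ⟶ S)
    (sq : u ≫ f = f' ≫ gS) [IsClosedImmersion (pullback.lift u f' sq)] {V : S.Opens} (hV : IsAffineOpen V)
    {V' : S'.Opens} (hV' : IsAffineOpen V') (hVV : V' ≤ gS ⁻¹ᵁ V) {U₀ : X.Opens} (hU₀ : IsAffineOpen U₀)
    (hle : U₀ ≤ f ⁻¹ᵁ V) :
    IsAffineOpen (u ⁻¹ᵁ U₀ ⊓ f' ⁻¹ᵁ V') ∧
      letI := (f'.appLE V' (u ⁻¹ᵁ U₀ ⊓ f' ⁻¹ᵁ V') inf_le_right).hom.toAlgebra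
      Submodule.span Γ(S', V') (Set.range (u.appLE U₀ (u ⁻¹ᵁ U₀ ⊓ f' ⁻¹ᵁ V') inf_le_left).hom) = ⊤ := by
  let H := IsPullback.of_hasPullback f gS
  let O := pullback.fst f gS ⁻¹ᵁ U₀ ⊓ pullback.snd f gS ⁻¹ᵁ V'
  haveI : IsAffine _ := hV
  haveI : IsAffine _ := hV'
  haveI : IsAffine _ := hU₀
  have hO : IsAffineOpen O := .of_isIso (Scheme.Hom.isPullback_resLE H hVV hle (UY := O) rfl).isoPullback.hom
  let j := pullback.lift u f' sq
  have hpre : u ⁻¹ᵁ U₀ ⊓ f' ⁻¹ᵁ V' = j ⁻¹ᵁ O := by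
    show _ = j ⁻¹ᵁ (pullback.fst f gS ⁻¹ᵁ U₀) ⊓ j ⁻¹ᵁ (pullback.snd f gS ⁻¹ᵁ V')
    rw [← Scheme.Hom.comp_preimage, ← Scheme.Hom.comp_preimage, pullback.lift_fst, pullback.lift_snd]
  refine ⟨hpre ▸ hO.preimage j, ?_⟩
  letI := (f'.appLE V' (u ⁻¹ᵁ U₀ ⊓ f' ⁻¹ᵁ V') inf_le_right).hom.toAlgebra
  have hsurj : Function.Surjective (j.appLE O (u ⁻¹ᵁ U₀ ⊓ f' ⁻¹ᵁ V') hpre.le).hom := by
    have h0 := j.app_surjective O hO
    have hbij : Function.Bijective (X'.presheaf.map (homOfLE hpre.le).op).hom := by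
      rw [show homOfLE hpre.le = eqToHom hpre from rfl]
      exact ConcreteCategory.bijective_of_isIso _
    exact hbij.2.comp h0
  have hpo := (isIso_pushoutSection_iff H hVV hle (UY := O) rfl).1
    (isIso_pushoutSection_of_isAffineOpen H hVV hle (UY := O) rfl hV hV' hU₀)
  letI : Algebra Γ(S, V) Γ(X, U₀) := (f.appLE V U₀ hle).hom.toAlgebra
  letI : Algebra Γ(S, V) Γ(S', V') := (gS.appLE V V' hVV).hom.toAlgebra
  letI : Algebra Γ(X, U₀) Γ(pullback f gS, O) := ((pullback.fst f gS).appLE U₀ O inf_le_left).hom.toAlgebra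
  letI : Algebra Γ(S', V') Γ(pullback f gS, O) := ((pullback.snd f gS).appLE V' O inf_le_right).hom.toAlgebra
  letI : Algebra Γ(S, V) Γ(pullback f gS, O) :=
    ((algebraMap Γ(X, U₀) Γ(pullback f gS, O)).comp (algebraMap Γ(S, V) Γ(X, U₀))).toAlgebra
  haveI : IsScalarTower Γ(S, V) Γ(X, U₀) Γ(pullback f gS, O) := .of_algebraMap_eq' rfl
  haveI : IsScalarTower Γ(S, V) Γ(S', V') Γ(pullback f gS, O) :=
    .of_algebraMap_eq' (congrArg CommRingCat.Hom.hom hpo.w)
  haveI : Algebra.IsPushout Γ(S, V) Γ(S', V') Γ(X, U₀) Γ(pullback f gS, O) :=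
    (CommRingCat.isPushout_iff_isPushout.1 hpo).symm
  rw [eq_top_iff]
  intro y _
  obtain ⟨o, rfl⟩ := hsurj y
  obtain ⟨w, rfl⟩ := (Algebra.IsPushout.equiv Γ(S, V) Γ(S', V') Γ(X, U₀) Γ(pullback f gS, O)).surjective o
  induction w using TensorProduct.induction_on with
  | zero => rw [map_zero, map_zero]; exact zero_mem _
  | add a b ha hb => rw [map_add, map_add]; exact add_mem (ha trivial) (hb trivial)
  | tmul r a =>
    rw [Algebra.IsPushout.equiv_tmul, map_mul]
    show ((pullback.snd f gS).appLE V' O inf_le_right ≫ j.appLE O _ hpre.le).hom r *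
      ((pullback.fst f gS).appLE U₀ O inf_le_left ≫ j.appLE O _ hpre.le).hom a ∈ _
    rw [Scheme.Hom.appLE_comp_appLE, Scheme.Hom.appLE_comp_appLE,
      Groth.L27.Quot.appLE_eq_of_eq (pullback.lift_snd u f' sq),
      Groth.L27.Quot.appLE_eq_of_eq (pullback.lift_fst u f' sq)]
    exact Submodule.smul_mem _ r (Submodule.subset_span ⟨a, rfl⟩)

/-- The sections of a summand are the localisation of the sections of the disjoint union at its idempotent. -/
theorem isLoc_ι (hU : ∀ j, IsAffineOpen (U j)) (j : J) (e : Γ(covX U, ⊤)) (he : (covX U).basicOpen e = covR U j) :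
    IsLoc ((Sigma.ι (fun j => (U j).toScheme) j).appLE ⊤ ⊤ le_top).hom e := by
  haveI := isAffine_covX hU
  haveI : IsOpenImmersion ((⊤ : (U j).toScheme.Opens).ι ≫ Sigma.ι (fun j => (U j).toScheme) j) := inferInstance
  refine isLoc_appLE _ (isAffineOpen_top _) e ⊤ ?_ le_top
  rw [he, Scheme.Hom.comp_base, TopCat.coe_comp, Set.range_comp, Scheme.Opens.range_ι]
  exact Set.image_univ

/-- The top open of a summand. -/
theorem ι_appLE_bijective (j : J) :
    Function.Bijective ((U j).ι.appLE (U j) ⊤ (U j).ι_preimage_self.ge).hom := by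
  haveI : IsIso ((U j).ι.app (U j)) := (U j).ι.isIso_app (U j) (by simp)
  have he : (U j).ι.appLE (U j) ⊤ (U j).ι_preimage_self.ge =
      (U j).ι.app (U j) ≫ (U j).toScheme.presheaf.map (eqToHom (U j).ι_preimage_self.symm).op := by
    rw [Scheme.Hom.app_eq_appLE, Scheme.Hom.appLE_map]
  rw [he]
  exact ConcreteCategory.bijective_of_isIso _

section Span

variable {S' X' : Scheme.{u}} (f : X ⟶ S) (f' : X' ⟶ S') (u : X' ⟶ X) (gS : S' ⟶ S) (sq : u ≫ f = f' ≫ gS)
  (U) (V' : S'.Opens)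

/-- The opens of the closed subscheme over `U`. -/
abbrev covPre (j : J) : X'.Opens := u ⁻¹ᵁ U j ⊓ f' ⁻¹ᵁ V'

/-- The map between the disjoint unions. -/
abbrev covMap : covX (covPre U f' u V') ⟶ covX U :=
  Sigma.desc fun j => u.resLE (U j) (covPre U f' u V' j) inf_le_left ≫ Sigma.ι (fun j => (U j).toScheme) j

theorem covMap_covU : covMap U f' u V' ≫ covU U = covU (covPre U f' u V') ≫ u := by
  refine Sigma.hom_ext _ _ fun j => ?_
  rw [Sigma.ι_desc_assoc, Category.assoc, Sigma.ι_desc, Scheme.Hom.resLE_comp_ι, Sigma.ι_desc_assoc]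

include sq in
theorem covMap_sq : covMap U f' u V' ≫ covF f U = covF f' (covPre U f' u V') ≫ gS := by
  rw [← Category.assoc, covMap_covU, Category.assoc, sq, ← Category.assoc]

theorem covMap_mem_iff (j : J) (y : ↥(covX (covPre U f' u V'))) :
    (covMap U f' u V').base y ∈ covR U j ↔ y ∈ covR (covPre U f' u V') j := by
  obtain ⟨i, z, rfl⟩ := covR_cover y
  have hi : (covMap U f' u V').base ((Sigma.ι (fun j => (covPre U f' u V' j).toScheme) i).base z) ∈ covR U i := by
    rw [← Scheme.Hom.comp_apply, Sigma.ι_desc, Scheme.Hom.comp_apply]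
    exact ⟨_, rfl⟩
  exact ⟨fun h => covR_unique hi h ▸ ⟨z, rfl⟩, fun h => covR_unique ⟨z, rfl⟩ h ▸ hi⟩

variable [IsClosedImmersion (pullback.lift u f' sq)] {V : S.Opens} (hV : IsAffineOpen V) {V'}
  (hV' : IsAffineOpen V') (hVV : V' ≤ gS ⁻¹ᵁ V) (hU : ∀ j, IsAffineOpen (U j)) (hle : ∀ j, U j ≤ f ⁻¹ᵁ V)

include sq hV hV' hVV hU hle

theorem isAffineOpen_covPre (j : J) : IsAffineOpen (covPre U f' u V' j) :=
  (span_sections f f' u gS sq hV hV' hVV (hU j) (hle j)).1

theorem span_covMap :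
    letI := ((covF f' (covPre U f' u V')).appLE V' ⊤ (covF_le fun j => inf_le_right)).hom.toAlgebra
    Submodule.span Γ(S', V') (Set.range (covMap U f' u V').appTop.hom) = ⊤ := by
  classical
  letI := ((covF f' (covPre U f' u V')).appLE V' ⊤ (covF_le fun j => inf_le_right)).hom.toAlgebra
  let U' := covPre U f' u V'
  have hU' := isAffineOpen_covPre U f f' u gS sq hV hV' hVV hU hle
  haveI := isAffine_covX hU'
  haveI := isAffine_covX hU
  rw [eq_top_iff]
  intro x _
  let K := Submodule.span Γ(S', V') (Set.range (covMap U f' u V').appTop.hom)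
  let 𝔞 : Ideal Γ(covX U', ⊤) :=
    { carrier := {a | ∀ y, a * y ∈ K}
      add_mem' := fun {a b} ha hb y => by rw [add_mul]; exact add_mem (ha y) (hb y)
      zero_mem' := fun y => by rw [zero_mul]; exact zero_mem _
      smul_mem' := fun c a ha y => by
        rw [smul_eq_mul, mul_comm c, mul_assoc]; exact ha _ }
  choose e hee he using exists_idem hU
  let e' : J → Γ(covX U', ⊤) := fun j => (covMap U f' u V').appTop.hom (e j)
  have he' : ∀ j, (covX U').basicOpen (e' j) = covR U' j := fun j => by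
    show (covX U').basicOpen ((covMap U f' u V').appTop.hom (e j)) = _
    rw [← Scheme.preimage_basicOpen_top, he]
    ext y
    exact covMap_mem_iff U f' u V' j y
  have hmem : ∀ j, e' j ∈ 𝔞 := by
    intro j y
    let ι' := ((Sigma.ι (fun j => (U' j).toScheme) j).appLE ⊤ ⊤ le_top).hom
    let ι₀ := ((Sigma.ι (fun j => (U j).toScheme) j).appLE ⊤ ⊤ le_top).hom
    have hl₀ := isLoc_ι hU j (e j) (he j)
    have hl' := isLoc_ι hU' j (e' j) (he' j)
    have hi' : e' j * e' j = e' j := by rw [← map_mul, hee]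
    -- restrict to the summand
    let res := ((U' j).ι.appLE (U' j) ⊤ (U' j).ι_preimage_self.ge).hom
    obtain ⟨a, ha⟩ : ∃ a, res a = ι' y := (ι_appLE_bijective (U := U') j).2 (ι' y)
    have hsp := (span_sections f f' u gS sq hV hV' hVV (hU j) (hle j)).2
    letI := (f'.appLE V' (U' j) inf_le_right).hom.toAlgebra
    have hKj : ∀ a : Γ(X', U' j), ∃ k ∈ K, ι' k = res a := by
      intro a
      have ha : a ∈ Submodule.span Γ(S', V')
          (Set.range (u.appLE (U j) (U' j) inf_le_left).hom) := hsp ▸ Submodule.mem_top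
      induction ha using Submodule.span_induction with
      | mem a ha =>
        obtain ⟨b, rfl⟩ := ha
        obtain ⟨n, c, hc⟩ := hl₀.surj (((U j).ι.appLE (U j) ⊤ (U j).ι_preimage_self.ge).hom b)
        have h1 : ι₀ (e j) = 1 := eq_one_of_idem hl₀.unit (by rw [← map_mul, hee])
        rw [h1, one_pow, mul_one] at hc
        refine ⟨_, Submodule.subset_span ⟨c, rfl⟩, ?_⟩
        show ((covMap U f' u V').appTop ≫ (Sigma.ι (fun j => (U' j).toScheme) j).appLE ⊤ ⊤ le_top).hom c =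
          (u.appLE (U j) (U' j) inf_le_left ≫ (U' j).ι.appLE (U' j) ⊤ _).hom b
        rw [show (covMap U f' u V').appTop = (covMap U f' u V').appLE ⊤ ⊤ le_top from Scheme.Hom.app_eq_appLE _,
          Scheme.Hom.appLE_comp_appLE, Scheme.Hom.appLE_comp_appLE,
          Groth.L27.Quot.appLE_eq_of_eq (Sigma.ι_desc _ j :
            Sigma.ι (fun j => (U' j).toScheme) j ≫ covMap U f' u V' = _),
          Groth.L27.Quot.appLE_eq_of_eq (Scheme.Hom.resLE_comp_ι u (show U' j ≤ u ⁻¹ᵁ U j from inf_le_left)).symm,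
          ← Scheme.Hom.appLE_comp_appLE _ _ ⊤ ⊤ ⊤ le_top le_top,
          ← Scheme.Hom.appLE_comp_appLE _ _ (U j) ⊤ ⊤ (U j).ι_preimage_self.ge le_top]
        rw [CommRingCat.comp_apply, CommRingCat.comp_apply]
        exact congrArg _ hc.symm
      | zero => exact ⟨0, zero_mem _, by rw [map_zero, map_zero]⟩
      | add a b _ _ ha hb =>
        obtain ⟨k, hk, hka⟩ := ha
        obtain ⟨l, hl, hlb⟩ := hb
        exact ⟨k + l, add_mem hk hl, by rw [map_add, map_add, hka, hlb]⟩
      | smul r a _ ha =>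
        obtain ⟨k, hk, hka⟩ := ha
        refine ⟨r • k, Submodule.smul_mem _ r hk, ?_⟩
        rw [Algebra.smul_def, Algebra.smul_def, map_mul, map_mul, hka]
        congr 1
        show ((covF f' U').appLE V' ⊤ _ ≫ (Sigma.ι (fun j => (U' j).toScheme) j).appLE ⊤ ⊤ le_top).hom r =
          (f'.appLE V' (U' j) inf_le_right ≫ (U' j).ι.appLE (U' j) ⊤ _).hom r
        rw [Scheme.Hom.appLE_comp_appLE, Scheme.Hom.appLE_comp_appLE,
          Groth.L27.Quot.appLE_eq_of_eq (Sigma.ι_desc_assoc _ j f' :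
            Sigma.ι (fun j => (U' j).toScheme) j ≫ covF f' U' = _)]
    obtain ⟨k, hk, hka⟩ := hKj a
    obtain ⟨n, hn⟩ := hl'.ker (y - k) (by
      show ι' (y - k) = 0
      rw [map_sub, hka, ha, sub_self])
    have hn1 : e' j * (y - k) = 0 := by
      have hp : ∀ n, e' j ^ (n + 1) = e' j := fun n => by
        induction n with
        | zero => rw [zero_add, pow_one]
        | succ n ih => rw [pow_succ, ih, hi']
      rw [← hp n, pow_succ, mul_comm (e' j ^ n), mul_assoc, hn, mul_zero]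
    rw [mul_sub, sub_eq_zero] at hn1
    rw [hn1]
    show (covMap U f' u V').appTop.hom (e j) * k ∈ K
    clear hka hn hn1
    induction hk using Submodule.span_induction with
    | mem k hk =>
      obtain ⟨c, rfl⟩ := hk
      rw [← map_mul]
      exact Submodule.subset_span ⟨_, rfl⟩
    | zero => rw [mul_zero]; exact zero_mem _
    | add a b _ _ ha hb => rw [mul_add]; exact add_mem ha hb
    | smul r a _ ha => rw [mul_smul_comm]; exact Submodule.smul_mem _ r ha
  have htop : Ideal.span (Set.range e') = ⊤ := by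
    rw [← (isAffineOpen_top (covX U')).iSup_basicOpen_eq_self_iff]
    rw [eq_top_iff]
    intro y _
    obtain ⟨j, hj⟩ := covR_cover y
    exact Opens.mem_iSup.2 ⟨⟨e' j, j, rfl⟩, (he' j).symm ▸ hj⟩
  have h1 : (1 : Γ(covX U', ⊤)) ∈ 𝔞 :=
    Ideal.span_le.2 (by rintro _ ⟨j, rfl⟩; exact hmem j) (htop ▸ Submodule.mem_top)
  simpa using h1 x

end Span

end Groth.L22.SymQuot
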