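import Groth.Agent.L22.SymQuot.Trace
import Mathlib.RingTheory.Localization.BaseChange
import Mathlib.RingTheory.Localization.Away.Basic
import Mathlib.RingTheory.Flat.Localization
import Mathlib.RingTheory.Flat.Stability

/-!
# Comparing two rings with a common localisation

`B` and `T` carry actions of `G`, the rings agree after localisation near a point by a map equivariant for the
subgroup `H`, and an idempotent `e` of `T` separates the conjugates.  Then the invariants of `H` in the
common localisation are a localisation of the invariants of `G` in `T`.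
-/

set_option autoImplicit false
set_option linter.style.haveILetI false
set_option backward.isDefEq.respectTransparency.types false

universe u

open TensorProduct

namespace Groth.L22.SymQuot

/-- `β` makes `L` the localisation at the powers of `v`. -/
structure IsLoc {B L : Type u} [CommRing B] [CommRing L] (β : B →+* L) (v : B) : Prop where
  unit : IsUnit (β v)
  surj : ∀ y, ∃ (n : ℕ) (b : B), y * β v ^ n = β b
  ker : ∀ b, β b = 0 → ∃ n : ℕ, v ^ n * b = 0

variable {G : Type u} [Group G] [Finite G] (H : Subgroup G)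
  {B L : Type u} [CommRing B] [CommRing L] [MulSemiringAction G B]

open scoped Classical

/-- An invariant element of the localisation has an invariant numerator. -/
theorem exists_invariant_num {β : B →+* L} {v : B} (hl : IsLoc β v) (hv : ∀ h : H, h • v = v)
    (τ : H → L →+* L) (hτ : ∀ (h : H) b, τ h (β b) = β (h • b)) (y : L) (hy : ∀ h, τ h y = y) :
    ∃ (n : ℕ) (b : B), (∀ h : H, h • b = b) ∧ y * β v ^ n = β b := by
  obtain ⟨n, b, hb⟩ := hl.surj y
  have h0 : ∀ h : H, β (h • b - b) = 0 := fun h => by
    rw [map_sub, ← hτ, ← hb, map_mul, map_pow, hτ, hv, hy, sub_self]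
  choose m hm using fun h => hl.ker _ (h0 h)
  haveI := Fintype.ofFinite H
  let M := Finset.univ.sup m
  refine ⟨n + M, v ^ M * b, fun h => ?_, ?_⟩
  · rw [smul_mul', smul_pow', hv, ← sub_eq_zero, ← mul_sub]
    obtain ⟨k, hk⟩ := Nat.exists_eq_add_of_le (Finset.le_sup (f := m) (Finset.mem_univ h))
    rw [show M = k + m h by rw [add_comm]; exact hk, pow_add, mul_assoc, hm h, mul_zero]
  · rw [map_mul, map_pow, ← hb, pow_add]
    ring

noncomputable local instance : Fintype (G ⧸ H) := Fintype.ofFinite _

open Groth.L27.InvEtale (orb orb_mk orb_one smul_orb)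

section Orth

variable {T : Type u} [CommRing T] [MulSemiringAction G T] (e : FixedPoints.subring T H)
  (hee : e * e = e) (horth : ∀ g : G, g ∉ H → g • (e : T) * (e : T) = 0)

include hee horth in
theorem tr_mul_self (x : FixedPoints.subring T H) :
    ((tr H (x * e) : FixedPoints.subring T G) : T) * (e : T) = (x : T) * (e : T) := by
  rw [coe_tr, Finset.sum_mul, Finset.sum_eq_single (QuotientGroup.mk (1 : G) : G ⧸ H)]
  · rw [orb_one, Subring.coe_mul, mul_assoc, ← Subring.coe_mul, hee]
  · intro c _ hc
    obtain ⟨g, rfl⟩ := QuotientGroup.mk_surjective c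
    rw [orb_mk, Subring.coe_mul, smul_mul', mul_assoc, horth g, mul_zero]
    intro hg
    exact hc (QuotientGroup.eq.2 (by simpa using H.inv_mem hg))
  · intro h; exact absurd (Finset.mem_univ _) h

include hee horth in
theorem tr_pow_mul_eq_zero (v : FixedPoints.subring T H) (t : T) (ht : ∀ g : G, g • t = t) (n : ℕ)
    (h : (v : T) ^ n * t * (e : T) = 0) :
    ((tr H (v * e) : FixedPoints.subring T G) : T) ^ (n + 1) * t = 0 := by
  rw [pow_succ, mul_assoc, coe_tr H (v * e), Finset.sum_mul, Finset.mul_sum]
  refine Finset.sum_eq_zero fun c _ => ?_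
  obtain ⟨g, rfl⟩ := QuotientGroup.mk_surjective c
  rw [← coe_tr, orb_mk, Subring.coe_mul, smul_mul']
  have key : ∀ k : ℕ, ((tr H (v * e) : FixedPoints.subring T G) : T) ^ k * g • (e : T) =
      g • ((v : T) ^ k * (e : T)) := by
    intro k
    induction k with
    | zero => rw [pow_zero, one_mul, pow_zero, one_mul]
    | succ k ih =>
      have h1 : ((tr H (v * e) : FixedPoints.subring T G) : T) * g • (e : T) = g • ((v : T) * (e : T)) := by
        rw [← tr_mul_self H e hee horth v, smul_mul' g, (tr H (v * e)).2 g]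
      rw [pow_succ, mul_assoc, h1, smul_mul', mul_comm (g • (v : T)), ← mul_assoc, ih, ← smul_mul',
        pow_succ]
      congr 1
      ring
  calc _ = (((tr H (v * e) : FixedPoints.subring T G) : T) ^ n * g • (e : T)) * g • t * g • (v : T) := by
        rw [ht]; ring
    _ = g • ((v : T) ^ n * t * (e : T)) * g • (v : T) := by
        rw [key, ← smul_mul']
        congr 2
        ring
    _ = 0 := by rw [h, smul_zero, zero_mul]

variable {v2 : FixedPoints.subring T H} {γ : T →+* L} (hγ : IsLoc γ (v2 : T)) (hγe : γ (e : T) = 1)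
  (τ : H → L →+* L) (hτ : ∀ (h : H) t, τ h (γ t) = γ (h • t))

include hee horth hγe in
theorem apply_tr (x : FixedPoints.subring T H) :
    γ ((tr H (x * e) : FixedPoints.subring T G) : T) = γ (x : T) := by
  have h := congrArg γ (tr_mul_self H e hee horth x)
  rwa [map_mul, map_mul, hγe, mul_one, mul_one] at h

include hee horth hγe hγ hτ in
theorem exists_num (y : L) (hy : ∀ h, τ h y = y) :
    ∃ (n : ℕ) (t : T), (∀ g : G, g • t = t) ∧
      y * γ ((tr H (v2 * e) : FixedPoints.subring T G) : T) ^ n = γ t := by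
  obtain ⟨n, t, ht, hyt⟩ := exists_invariant_num H hγ (fun h => v2.2 h) τ hτ y hy
  refine ⟨n, ((tr H (⟨t, ht⟩ * e) : FixedPoints.subring T G) : T), fun g => (tr H _).2 g, ?_⟩
  rw [apply_tr H e hee horth hγe, apply_tr H e hee horth hγe, hyt]

include hee horth hγe hγ in
theorem exists_pow_mul_eq_zero (t : T) (ht : ∀ g : G, g • t = t) (h : γ t = 0) :
    ∃ n : ℕ, ((tr H (v2 * e) : FixedPoints.subring T G) : T) ^ n * t = 0 := by
  obtain ⟨n, hn⟩ := hγ.ker t h
  exact ⟨n + 1, tr_pow_mul_eq_zero H e hee horth v2 t ht n (by rw [hn, zero_mul])⟩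

/-- Invariants of `H` near the point are flat. -/
theorem exists_mul_eq_zero {R : Type u} [CommRing R] [Algebra R B] [Algebra R T] [Algebra R L]
    [SMulCommClass G R B]
    (AT : Subalgebra R T) (hAT : ∀ t, t ∈ AT ↔ ∀ g : G, g • t = t) [Module.Flat R AT]
    {β : B →ₐ[R] L} {v : B} (hβ : IsLoc β.toRingHom v) (hv : ∀ h : H, h • v = v)
    {γ : T →ₐ[R] L} (hγ : IsLoc γ.toRingHom (v2 : T)) (hγe : γ (e : T) = 1)
    (hee : e * e = e) (horth : ∀ g : G, g ∉ H → g • (e : T) * (e : T) = 0)
    (τ : H → L →ₐ[R] L) (hτβ : ∀ (h : H) b, τ h (β b) = β (h • b))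
    (hτγ : ∀ (h : H) t, τ h (γ t) = γ (h • t))
    (I : Ideal R) (z : invAlg (B := B) H R ⊗[R] I) (hz : (I.subtype).lTensor _ z = 0) :
    ∃ n : ℕ, (LinearMap.mulLeft R ((⟨v, hv⟩ : invAlg (B := B) H R) ^ n)).rTensor I z = 0 := by
  let S := invAlg (B := B) H R
  let LH : Subalgebra R L :=
    { carrier := {y | ∀ h, τ h y = y}
      mul_mem' := fun {a b} ha hb h => by rw [map_mul, ha h, hb h]
      add_mem' := fun {a b} ha hb h => by rw [map_add, ha h, hb h]
      algebraMap_mem' := fun r h => (τ h).commutes r }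
  let iS : S →ₐ[R] LH := (β.comp S.val).codRestrict LH fun b h => by
    show τ h (β (b : B)) = β (b : B)
    rw [hτβ]; exact congrArg β (b.2 h)
  let iT : AT →ₐ[R] LH := (γ.comp AT.val).codRestrict LH fun t h => by
    show τ h (γ (t : T)) = γ (t : T)
    rw [hτγ]; exact congrArg γ ((hAT _).1 t.2 h)
  letI : Algebra S LH := iS.toRingHom.toAlgebra
  letI : Algebra AT LH := iT.toRingHom.toAlgebra
  haveI : IsScalarTower R S LH := IsScalarTower.of_algebraMap_eq fun r => (iS.commutes r).symm
  haveI : IsScalarTower R AT LH := IsScalarTower.of_algebraMap_eq fun r => (iT.commutes r).symm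
  have hunit : ∀ (y : LH), IsUnit (y : L) → IsUnit y := fun y hy => by
    obtain ⟨w, hw⟩ := hy.exists_left_inv
    refine isUnit_iff_exists_inv'.2 ⟨⟨w, fun h => ?_⟩, Subtype.ext hw⟩
    have h1 : τ h w * (y : L) = 1 := by
      conv_lhs => rw [← y.2 h]
      rw [← map_mul, hw, map_one]
    calc τ h w = τ h w * ((y : L) * w) := by rw [mul_comm (y : L), hw, mul_one]
      _ = w := by rw [← mul_assoc, h1, one_mul]
  let v' : AT := ⟨(tr H (v2 * e) : FixedPoints.subring T G), (hAT _).2 fun g => (tr H (v2 * e)).2 g⟩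
  haveI : IsLocalization.Away v' LH := by
    refine IsLocalization.Away.mk _ ?_ (fun y => ?_) fun a b hab => ?_
    · refine hunit _ ?_
      show IsUnit (γ ((tr H (v2 * e) : FixedPoints.subring T G) : T))
      rw [show γ ((tr H (v2 * e) : FixedPoints.subring T G) : T) = γ (v2 : T) from
        apply_tr (γ := γ.toRingHom) H e hee horth hγe v2]
      exact hγ.unit
    · obtain ⟨n, t, ht, hyt⟩ := exists_num (γ := γ.toRingHom) H e hee horth hγ hγe
        (fun h => (τ h).toRingHom) hτγ (y : L) y.2
      exact ⟨n, ⟨t, (hAT t).2 ht⟩, Subtype.ext hyt⟩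
    · obtain ⟨n, hn⟩ := exists_pow_mul_eq_zero (γ := γ.toRingHom) H e hee horth hγ hγe ((a - b : AT) : T)
        ((hAT _).1 (a - b).2) (by
          show γ ((a : T) - (b : T)) = 0
          rw [map_sub, sub_eq_zero]
          exact congrArg Subtype.val hab)
      exact ⟨n, sub_eq_zero.1 (by rw [← mul_sub]; exact Subtype.ext hn)⟩
  haveI : Module.Flat AT LH := IsLocalization.flat LH (Submonoid.powers v')
  haveI : Module.Flat R LH := Module.Flat.trans R AT LH
  haveI : IsLocalization.Away (⟨v, hv⟩ : S) LH := by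
    refine IsLocalization.Away.mk _ (hunit _ hβ.unit) (fun y => ?_) fun a b hab => ?_
    · obtain ⟨n, b, hb, hyb⟩ := exists_invariant_num H hβ hv (fun h => (τ h).toRingHom) hτβ (y : L) y.2
      exact ⟨n, ⟨b, hb⟩, Subtype.ext hyb⟩
    · obtain ⟨n, hn⟩ := hβ.ker ((a : B) - (b : B)) (by
        show β ((a : B) - (b : B)) = 0
        rw [map_sub, sub_eq_zero]
        exact congrArg Subtype.val hab)
      exact ⟨n, sub_eq_zero.1 (by rw [← mul_sub]; exact Subtype.ext hn)⟩
  have h0 : iS.toLinearMap.rTensor I z = 0 := by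
    apply Module.Flat.lTensor_preserves_injective_linearMap (M := LH) I.subtype Subtype.val_injective
    rw [lTensor_rTensor_comm, hz, map_zero, map_zero]
  have key : ∀ w : S ⊗[R] I, (AlgebraTensorModule.rTensor R I (Algebra.linearMap S LH)) w =
      iS.toLinearMap.rTensor I w := fun w => by
    induction w using TensorProduct.induction_on with
    | zero => simp
    | tmul b r => rfl
    | add x y hx hy => simp only [map_add, hx, hy]
  have h1 := (key z).trans h0
  obtain ⟨⟨_, n, rfl⟩, hn⟩ := (IsLocalizedModule.eq_zero_iff (Submonoid.powers (⟨v, hv⟩ : S))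
    (AlgebraTensorModule.rTensor R I (Algebra.linearMap S LH))).1 h1
  refine ⟨n, ?_⟩
  refine Eq.trans ?_ hn
  clear h0 h1 hn hz
  induction z using TensorProduct.induction_on with
  | zero => simp
  | tmul b r => simp [TensorProduct.smul_tmul', Submonoid.smul_def]
  | add x y hx hy => simp only [map_add, smul_add, hx, hy]

end Orth

end Groth.L22.SymQuot
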