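import Groth.Agent.L22.SymQuot.Chart
import Mathlib.RingTheory.Localization.FractionRing

/-!
# Invariants of symmetric groups on stable affine opens of fibre powers

For a flat `f` the invariants are flat over the base, and on the fibre power of a closed subscheme of a base
change the invariants are spanned by invariants of the original fibre power when the subscheme is flat over
the new base, or when `d!` is invertible there.
-/

set_option autoImplicit false
set_option linter.style.haveILetI false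
set_option linter.unusedSectionVars false
set_option backward.isDefEq.respectTransparency false

universe u

open CategoryTheory CategoryTheory.Limits AlgebraicGeometry TopologicalSpace
open scoped TensorProduct

noncomputable section

namespace Groth.L22.SymQuot

variable {X S : Scheme.{u}} {f : X ⟶ S} {d : ℕ} {V : S.Opens} (hV : IsAffineOpen V)
  {W : (SymProd.fibPow f d).Opens} (hW : IsAffineOpen W) (hWs : Stable f d W) (hWV : W ≤ bse f d ⁻¹ᵁ V)

include hV hW in
/-- The invariants of a stable affine open of the fibre power of a flat morphism are flat. -/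
theorem flat_invariants_of_stable [Flat f] :
    letI := actOn hWs
    letI : Algebra Γ(S, V) Γ(SymProd.fibPow f d, W) := ((bse f d).appLE V W hWV).hom.toAlgebra
    ∀ A : Subalgebra Γ(S, V) Γ(SymProd.fibPow f d, W),
      (∀ b, b ∈ A ↔ ∀ g : GP.{u} d, g • b = b) → Module.Flat Γ(S, V) A := by
  letI := actOn hWs
  letI : Algebra Γ(S, V) Γ(SymProd.fibPow f d, W) := ((bse f d).appLE V W hWV).hom.toAlgebra
  haveI := smulComm_base (V := V) hWs hWV
  intro A hA
  refine flat_invariants A hA fun q _ => ?_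
  let B := Γ(SymProd.fibPow f d, W)
  let φ : B →+* FractionRing (B ⧸ q) := (algebraMap (B ⧸ q) (FractionRing (B ⧸ q))).comp (Ideal.Quotient.mk q)
  have hker : RingHom.ker φ = q := by
    ext b
    rw [RingHom.mem_ker, RingHom.comp_apply, map_eq_zero_iff _ (IsFractionRing.injective (B ⧸ q) _),
      Ideal.Quotient.eq_zero_iff_mem]
  obtain ⟨J, _, U, hU, hle, κ, hκ, v, v2, hv, hvφ, hv2, hv2E, hrange⟩ := exists_chart hV hW hWs hWV φ
  rw [hker] at hκ hv hv2
  let H := q.inertia (GP.{u} d)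
  obtain ⟨θ, hθ⟩ := Groth.L27.InvEtale.exists_inertia_sep (G := GP.{u} d) q
  refine ⟨H, θ, hθ, fun I z hz => ?_⟩
  letI := actOn (stable_bse (f := covF f U) (d := d) V)
  obtain ⟨eW, hst, e, hβ, hγ, hγe, hee, horth, hτβ, hτγ⟩ :=
    exists_common hV hW hWs U κ H v v2 hU hle hκ hv2 hv2E hrange
  let P1 := SymProd.fibPow (covF f U) d
  let D2 := P1.basicOpen v2
  letI : Algebra Γ(S, V) Γ(P1, bse (covF f U) d ⁻¹ᵁ V) := ((bse (covF f U) d).appLE V _ le_rfl).hom.toAlgebra
  have eD : D2 ≤ bse (covF f U) d ⁻¹ᵁ V := P1.basicOpen_le v2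
  letI : Algebra Γ(S, V) Γ(P1, D2) := ((bse (covF f U) d).appLE V D2 eD).hom.toAlgebra
  haveI := smulComm_base (V := V) (stable_bse (f := covF f U) (d := d) V) le_rfl
  let AT : Subalgebra Γ(S, V) Γ(P1, bse (covF f U) d ⁻¹ᵁ V) :=
    { carrier := {t | ∀ g : GP.{u} d, g • t = t}
      mul_mem' := fun {a b} ha hb g => by rw [smul_mul', ha g, hb g]
      add_mem' := fun {a b} ha hb g => by rw [smul_add, ha g, hb g]
      algebraMap_mem' := fun r g => smul_algebraMap g r }
  haveI : Flat (covF f U) := by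
    haveI : Flat (covU U) := IsZariskiLocalAtSource.sigmaDesc fun _ => inferInstance
    infer_instance
  haveI := isAffine_covX hU
  haveI : Module.Flat Γ(S, V) AT :=
    flat_invariants_base (covF f U) hV (covF_le hle) AT fun _ => Iff.rfl
  let β : B →ₐ[Γ(S, V)] Γ(P1, D2) :=
    { ((cmap (covF f U) (covU U) rfl).appLE W D2 eW).hom with
      commutes' := fun r => by
        show ((cmap (covF f U) (covU U) rfl).appLE W D2 eW).hom (((bse f d).appLE V W hWV).hom r) =
          ((bse (covF f U) d).appLE V D2 eD).hom r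
        rw [appLE_appLE_apply, appLE_congr_apply (SymProd.fibPowMap_base _ _ _ _ _)] }
  let γ : Γ(P1, bse (covF f U) d ⁻¹ᵁ V) →ₐ[Γ(S, V)] Γ(P1, D2) :=
    { (P1.presheaf.map (homOfLE eD).op).hom with
      commutes' := fun r => by
        show ((bse (covF f U) d).appLE V _ le_rfl ≫ P1.presheaf.map _).hom r = _
        rw [Scheme.Hom.appLE_map]
        rfl }
  let τ : H → Γ(P1, D2) →ₐ[Γ(S, V)] Γ(P1, D2) := fun h =>
    { ((mv (covF f U) d h.1).appLE D2 D2 (hst h)).hom with
      commutes' := fun r => by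
        show ((mv (covF f U) d h.1).appLE D2 D2 (hst h)).hom (((bse (covF f U) d).appLE V D2 eD).hom r) =
          ((bse (covF f U) d).appLE V D2 eD).hom r
        rw [appLE_appLE_apply, appLE_congr_apply (mv_bse _ _ _)] }
  obtain ⟨n, hn⟩ := exists_mul_eq_zero (v2 := ⟨v2, fun h => hv2 h.1 h.2⟩) H e AT (fun _ => Iff.rfl)
    (β := β) hβ hv (γ := γ) hγ hγe hee horth τ hτβ hτγ I z hz
  refine ⟨_, ?_, hn⟩
  rw [SubmonoidClass.coe_pow]
  exact fun h => hvφ (by
    rw [← RingHom.mem_ker, hker]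
    exact Ideal.IsPrime.mem_of_pow_mem inferInstance n h)

section Span

variable {S' X' : Scheme.{u}} (f' : X' ⟶ S') (u : X' ⟶ X) (gS : S' ⟶ S) (sq : u ≫ f = f' ≫ gS)
  [IsClosedImmersion (pullback.lift u f' sq)] {V' : S'.Opens} (hV' : IsAffineOpen V') (hVV : V' ≤ gS ⁻¹ᵁ V)

include hV hW hWV hV' hVV in
/-- Invariants on the fibre power of a closed subscheme of a base change are spanned by invariants. -/
theorem mem_Sp_of_stable {W' : (SymProd.fibPow f' d).Opens} (hW' : IsAffineOpen W') (hWs' : Stable f' d W')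
    (hW'eq : W' = hmap f f' u gS sq d ⁻¹ᵁ W ⊓ bse f' d ⁻¹ᵁ V')
    (h : Flat f' ∨ IsUnit ((d.factorial : ℕ) : Γ(S', V'))) :
    letI := actOn hWs
    letI := actOn hWs'
    ∀ s : Γ(SymProd.fibPow f' d, W'), (∀ g : GP.{u} d, g • s = s) →
      s ∈ Sp ((hmap f f' u gS sq d).appLE W W' (hW'eq.le.trans inf_le_left)).hom
        ((bse f' d).appLE V' W' (hW'eq.le.trans inf_le_right)).hom
        fun b => ∀ g : GP.{u} d, g • b = b := by
  classical
  letI := actOn hWs
  letI := actOn hWs'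
  intro s hs
  let hh := hmap f f' u gS sq d
  have eh : W' ≤ hh ⁻¹ᵁ W := hW'eq.le.trans inf_le_left
  have eb : W' ≤ bse f' d ⁻¹ᵁ V' := hW'eq.le.trans inf_le_right
  refine mem_Sp_of_forall_prime _ _ (fun g b => ?_) (fun g r => ?_) s hs fun q _ => ?_
  · show (hh.appLE W W' eh).hom (((mv f d g).appLE W W (hWs g)).hom b) =
      ((mv f' d g).appLE W' W' (hWs' g)).hom ((hh.appLE W W' eh).hom b)
    rw [appLE_appLE_apply, appLE_appLE_apply, appLE_congr_apply (mv_hmap f f' u gS sq g)]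
  · show ((mv f' d g).appLE W' W' (hWs' g)).hom (((bse f' d).appLE V' W' eb).hom r) = _
    rw [appLE_appLE_apply, appLE_congr_apply (mv_bse f' d g)]
  let B := Γ(SymProd.fibPow f d, W)
  let φ : B →+* FractionRing (B ⧸ q) := (algebraMap (B ⧸ q) (FractionRing (B ⧸ q))).comp (Ideal.Quotient.mk q)
  have hker : RingHom.ker φ = q := by
    ext b
    rw [RingHom.mem_ker, RingHom.comp_apply, map_eq_zero_iff _ (IsFractionRing.injective (B ⧸ q) _),
      Ideal.Quotient.eq_zero_iff_mem]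
  obtain ⟨J, _, U, hU, hle, κ, hκ, v, v2, hv, hvφ, hv2, hv2E, hrange⟩ := exists_chart hV hW hWs hWV φ
  rw [hker] at hκ hv hv2
  let H := q.inertia (GP.{u} d)
  obtain ⟨θ, hθ⟩ := Groth.L27.InvEtale.exists_inertia_sep (G := GP.{u} d) q
  refine ⟨H, θ, hθ, ?_⟩
  let f1 := covF f U
  let U' := covPre U f' u V'
  let f1' := covF f' U'
  let u1 := covMap U f' u V'
  have sq1 : u1 ≫ f1 = f1' ≫ gS := covMap_sq U f f' u gS sq V'
  let h1 := hmap f1 f1' u1 gS sq1 d
  have hle' : ∀ j, U' j ≤ f' ⁻¹ᵁ V' := fun j => inf_le_right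
  have hU' : ∀ j, IsAffineOpen (U' j) := isAffineOpen_covPre U f f' u gS sq hV hV' hVV hU hle
  let c := cmap (d := d) f1 (covU U) rfl
  let c' := cmap (d := d) f1' (covU U') rfl
  have hcc : c' ≫ hh = h1 ≫ c := by
    apply WidePullback.hom_ext
    · intro i
      simp only [c, c', hh, h1, Category.assoc, WidePullback.lift_π, SymProd.fibPowMap_π,
        SymProd.fibPowMap_π_assoc, WidePullback.lift_π_assoc]
      exact congrArg _ (covMap_covU U f' u V').symm
    · simp [c, c', hh, h1]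
  letI := actOn (stable_bse (f := f1) (d := d) V)
  letI := actOn (stable_bse (f := f1') (d := d) V')
  have eQ : bse f1' d ⁻¹ᵁ V' ≤ h1 ⁻¹ᵁ (bse f1 d ⁻¹ᵁ V) := fun p hp => by
    rw [Scheme.Hom.mem_preimage, Scheme.Hom.mem_preimage, ← Scheme.Hom.comp_apply, WidePullback.lift_base,
      Scheme.Hom.comp_apply]
    exact hVV hp
  let v' : Γ(SymProd.fibPow f' d, W') := (hh.appLE W W' eh).hom v
  let v2' : Γ(SymProd.fibPow f1' d, bse f1' d ⁻¹ᵁ V') := (h1.appLE _ _ eQ).hom v2
  have hvinv' : ∀ g : H, g • v' = v' := fun g => by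
    show ((mv f' d g.1).appLE W' W' (hWs' g.1)).hom ((hh.appLE W W' eh).hom v) = (hh.appLE W W' eh).hom v
    conv_rhs => rw [← hv g]
    show _ = (hh.appLE W W' eh).hom (((mv f d g.1).appLE W W (hWs g.1)).hom v)
    rw [appLE_appLE_apply, appLE_appLE_apply, appLE_congr_apply (mv_hmap f f' u gS sq g.1)]
  have hh1 : ∀ (g : GP.{u} d) t, (h1.appLE _ _ eQ).hom (g • t) = g • (h1.appLE _ _ eQ).hom t := fun g t => by
    show (h1.appLE _ _ eQ).hom (((mv f1 d g).appLE _ _ (stable_bse V g)).hom t) =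
      ((mv f1' d g).appLE _ _ (stable_bse V' g)).hom ((h1.appLE _ _ eQ).hom t)
    rw [appLE_appLE_apply, appLE_appLE_apply, appLE_congr_apply (mv_hmap f1 f1' u1 gS sq1 g)]
  have hv2'inv : ∀ g ∈ H, g • v2' = v2' := fun g hg => by
    show g • (h1.appLE _ _ eQ).hom v2 = (h1.appLE _ _ eQ).hom v2
    rw [← hh1, hv2 g hg]
  have hD' : ∀ p, p ∈ (SymProd.fibPow f1' d).basicOpen v2' ↔
      (bse f1' d).base p ∈ V' ∧ h1.base p ∈ (SymProd.fibPow f1 d).basicOpen v2 := fun p => by
    rw [Scheme.basicOpen_appLE]; exact Iff.rfl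
  have hE' : ∀ p, h1.base p ∈ covE f U V κ → (bse f1' d).base p ∈ V' → p ∈ covE f' U' V' κ := fun p hp hpV => by
    refine mem_boxF.2 ⟨hpV, fun i => (covMap_mem_iff U f' u V' (κ i) _).1 ?_⟩
    have := (mem_boxF.1 hp).2 i
    rwa [← Scheme.Hom.comp_apply, WidePullback.lift_π, Scheme.Hom.comp_apply] at this
  have hv2'E : (SymProd.fibPow f1' d).basicOpen v2' ≤ covE f' U' V' κ := fun p hp =>
    hE' p (hv2E ((hD' p).1 hp).2) ((hD' p).1 hp).1
  obtain ⟨hoi, hboxrange⟩ := isOpenImmersion_comp (f := f) (U := U) (V := V) (κ := κ)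
  have hrange' : Set.range (((SymProd.fibPow f1' d).basicOpen v2').ι ≫ c').base =
      ((SymProd.fibPow f' d).basicOpen v' : Set ↥(SymProd.fibPow f' d)) := by
    ext o
    have hDv' : o ∈ (SymProd.fibPow f' d).basicOpen v' ↔
        o ∈ W' ∧ hh.base o ∈ (SymProd.fibPow f d).basicOpen v := by
      rw [Scheme.basicOpen_appLE]; exact Iff.rfl
    rw [SetLike.mem_coe, hDv']
    constructor
    · rintro ⟨p, rfl⟩
      have hp := (hD' p.1).1 p.2
      have h2 : hh.base (c'.base p.1) ∈ (SymProd.fibPow f d).basicOpen v := by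
        rw [← Scheme.Hom.comp_apply, hcc, Scheme.Hom.comp_apply, ← SetLike.mem_coe, ← hrange]
        exact ⟨⟨_, hp.2⟩, rfl⟩
      have hbp : (bse f' d).base (c'.base p.1) ∈ V' := by
        rw [← Scheme.Hom.comp_apply, SymProd.fibPowMap_base]; exact hp.1
      have hcW : c'.base p.1 ∈ W' := hW'eq.symm ▸ ⟨(SymProd.fibPow f d).basicOpen_le v h2, hbp⟩
      exact ⟨hcW, h2⟩
    · rintro ⟨hoW, hov⟩
      have hovv : hh.base o ∈ ((SymProd.fibPow f d).basicOpen v : Set _) := hov
      rw [← hrange] at hovv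
      obtain ⟨p0, hp0⟩ := hovv
      have hoB : o ∈ boxF f' d V' fun i => U' (κ i) := by
        have hbV : (bse f' d).base o ∈ V' := (hW'eq.le hoW).2
        refine mem_boxF.2 ⟨hbV, fun i => ⟨?_, ?_⟩⟩
        · show u.base ((prj f' d i).base o) ∈ U (κ i)
          have hbox : hh.base o ∈ (boxF f d V fun i => U (κ i) : Set ↥(SymProd.fibPow f d)) := by
            rw [← hboxrange, ← hp0]
            exact ⟨⟨p0.1, hv2E p0.2⟩, rfl⟩
          have := (mem_boxF.1 hbox).2 i
          rwa [← Scheme.Hom.comp_apply, WidePullback.lift_π, Scheme.Hom.comp_apply] at this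
        · show f'.base ((prj f' d i).base o) ∈ V'
          rw [← Scheme.Hom.comp_apply, WidePullback.π_arrow]; exact hbV
      obtain ⟨p, hp⟩ : o ∈ Set.range ((covE f' U' V' κ).ι ≫ c').base :=
        (isOpenImmersion_comp (f := f') (U := U') (V := V') (κ := κ)).2.symm ▸ hoB
      refine ⟨⟨p.1, (hD' p.1).2 ⟨(mem_boxF.1 p.2).1, ?_⟩⟩, hp⟩
      have hpE : h1.base p.1 ∈ covE f U V κ := by
        refine mem_boxF.2 ⟨eQ (mem_boxF.1 p.2).1, fun i => ?_⟩
        rw [← Scheme.Hom.comp_apply, WidePullback.lift_π, Scheme.Hom.comp_apply]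
        exact (covMap_mem_iff U f' u V' (κ i) _).2 ((mem_boxF.1 p.2).2 i)
      haveI := hoi
      have hinj := ((covE f U V κ).ι ≫ c).isOpenEmbedding.injective
      have heq : (⟨h1.base p.1, hpE⟩ : covE f U V κ) = ⟨p0.1, hv2E p0.2⟩ := hinj (by
        show c.base (h1.base p.1) = c.base p0.1
        rw [← Scheme.Hom.comp_apply, ← hcc, Scheme.Hom.comp_apply]
        exact (congrArg hh.base hp).trans hp0.symm)
      rw [show h1.base p.1 = p0.1 from congrArg Subtype.val heq]
      exact p0.2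
  obtain ⟨eW, hst, e, hβ, hγ, hγe, hee, horth, hτβ, hτγ⟩ :=
    exists_common hV hW hWs U κ H v v2 hU hle hκ hv2 hv2E hrange
  obtain ⟨eW', hst', e', hβ', hγ', hγe', hee', horth', hτβ', hτγ'⟩ :=
    exists_common hV' hW' hWs' U' κ H v' v2' hU' hle' hκ hv2'inv hv2'E hrange'
  let D2 := (SymProd.fibPow f1 d).basicOpen v2
  let D2' := (SymProd.fibPow f1' d).basicOpen v2'
  let β := (c.appLE W D2 eW).hom
  let β' := (c'.appLE W' D2' eW').hom
  let γ := ((SymProd.fibPow f1 d).presheaf.map (homOfLE ((SymProd.fibPow f1 d).basicOpen_le v2)).op).hom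
  let γ' := ((SymProd.fibPow f1' d).presheaf.map (homOfLE ((SymProd.fibPow f1' d).basicOpen_le v2')).op).hom
  let τ : H → Γ(SymProd.fibPow f1 d, D2) →+* Γ(SymProd.fibPow f1 d, D2) :=
    fun g => ((mv f1 d g.1).appLE D2 D2 (hst g)).hom
  let τ' : H → Γ(SymProd.fibPow f1' d, D2') →+* Γ(SymProd.fibPow f1' d, D2') :=
    fun g => ((mv f1' d g.1).appLE D2' D2' (hst' g)).hom
  have eL : D2' ≤ h1 ⁻¹ᵁ D2 := fun p hp => ((hD' p).1 hp).2
  let hL := (h1.appLE D2 D2' eL).hom
  have hLβ : ∀ b, hL (β b) = β' ((hh.appLE W W' eh).hom b) := fun b => by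
    show (h1.appLE D2 D2' eL).hom ((c.appLE W D2 eW).hom b) = (c'.appLE W' D2' eW').hom ((hh.appLE W W' eh).hom b)
    rw [appLE_appLE_apply, appLE_appLE_apply, appLE_congr_apply hcc.symm]
  have hLγ : ∀ t, γ' ((h1.appLE _ _ eQ).hom t) = hL (γ t) := fun t => by
    show (h1.appLE _ _ eQ ≫ (SymProd.fibPow f1' d).presheaf.map _).hom t =
      ((SymProd.fibPow f1 d).presheaf.map _ ≫ h1.appLE D2 D2' eL).hom t
    rw [Scheme.Hom.appLE_map, Scheme.Hom.map_appLE]
  have eD' : D2' ≤ bse f1' d ⁻¹ᵁ V' := fun p hp => ((hD' p).1 hp).1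
  have hψ : ∀ r, γ' (((bse f1' d).appLE V' _ le_rfl).hom r) = β' (((bse f' d).appLE V' W' eb).hom r) := fun r => by
    show ((bse f1' d).appLE V' _ le_rfl ≫ (SymProd.fibPow f1' d).presheaf.map _).hom r =
      (c'.appLE W' D2' eW').hom (((bse f' d).appLE V' W' eb).hom r)
    rw [Scheme.Hom.appLE_map, appLE_appLE_apply, appLE_congr_apply (SymProd.fibPowMap_base f1' d f' (covU U') rfl)]
  have hys : ∀ g : H, τ' g (β' s) = β' s := fun g => (hτβ' g s).trans (congrArg β' (hs g.1))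
  obtain ⟨n, t', ht', hyt⟩ := exists_num (v2 := ⟨v2', fun g => hv2'inv g.1 g.2⟩) H e' hee' horth' hγ' hγe' τ'
    hτγ' (β' s) hys
  replace hyt : β' s * γ' v2' ^ n = γ' t' := by
    rw [← hyt]
    congr 2
    exact (apply_tr H e' hee' horth' (γ := γ') hγe' ⟨v2', fun g => hv2'inv g.1 g.2⟩).symm
  have ht'Sp : t' ∈ Sp (h1.appLE _ _ eQ).hom ((bse f1' d).appLE V' _ le_rfl).hom
      fun b => ∀ g : GP.{u} d, g • b = b := by
    haveI := isAffine_covX hU
    haveI := isAffine_covX hU'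
    refine mem_Sp_base f1 hV (covF_le hle) f1' u1 gS sq1 hV' (covF_le hle') eQ
      (span_covMap U f f' u gS sq hV hV' hVV hU hle) ?_ t' ht'
    refine h.imp_left fun hf => ?_
    haveI := hf
    haveI : Flat (covU U') := IsZariskiLocalAtSource.sigmaDesc fun _ => inferInstance
    infer_instance
  have hun : IsUnit (γ v2 ^ n) := hγ.unit.pow n
  let w := (hun.unit⁻¹ : _).1
  have hw : γ v2 ^ n * w = 1 := hun.mul_val_inv
  have hwinv : ∀ g, τ g w = w := fun g => by
    have h1 : τ g (γ v2 ^ n) = γ v2 ^ n := by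
      rw [map_pow]; congr 1
      exact (hτγ g v2).trans (congrArg γ (hv2 g.1 g.2))
    have h2 : γ v2 ^ n * τ g w = γ v2 ^ n * w := by
      conv_lhs => rw [← h1, ← map_mul, hw, map_one]
      exact hw.symm
    exact hun.mul_left_cancel h2
  have hy : β' s = γ' t' * hL w := by
    rw [← hyt, mul_assoc, ← map_pow γ', show γ' (v2' ^ n) = hL (γ v2 ^ n) by
      rw [map_pow, map_pow]; exact congrArg (· ^ n) (hLγ v2), ← map_mul, hw, map_one, mul_one]
  let hB : B →+* Γ(SymProd.fibPow f' d, W') := (hh.appLE W W' eh).hom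
  have hmem : ∀ t, t ∈ Sp (h1.appLE _ _ eQ).hom ((bse f1' d).appLE V' _ le_rfl).hom
      (fun b => ∀ g : GP.{u} d, g • b = b) →
      ∃ (M : ℕ) (σ : Γ(SymProd.fibPow f' d, W')), σ ∈ Sp hB ((bse f' d).appLE V' W' eb).hom
        (fun b => ∀ g : H, g • b = b) ∧ γ' t * hL w * β' v' ^ M = β' σ := by
    intro t ht
    induction ht using AddSubgroup.closure_induction with
    | mem t ht =>
      obtain ⟨r, b, hb, rfl⟩ := ht
      have hbi : ∀ g, τ g (γ b * w) = γ b * w := fun g => by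
        rw [map_mul, hwinv]
        congr 1
        exact (hτγ g b).trans (congrArg γ (hb g.1))
      obtain ⟨M, b', hb', hbM⟩ := exists_invariant_num H hβ hv τ hτβ (γ b * w) hbi
      refine ⟨M, _, mem_Sp _ _ r b' hb', ?_⟩
      rw [map_mul, map_mul, hψ, hLγ, mul_assoc, mul_assoc, ← mul_assoc (hL (γ b)), ← map_mul hL,
        show β' v' = hL (β v) from (hLβ v).symm, ← map_pow hL, ← map_mul hL, hbM, hLβ]
    | zero => exact ⟨0, 0, zero_mem _, by simp⟩
    | add x y _ _ hx hy =>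
      obtain ⟨M, σ, hσ, hxe⟩ := hx
      obtain ⟨N, ρ, hρ, hye⟩ := hy
      have hvp : ∀ k, ∀ σ ∈ Sp hB ((bse f' d).appLE V' W' eb).hom (fun b => ∀ g : H, g • b = b),
          v' ^ k * σ ∈ Sp hB ((bse f' d).appLE V' W' eb).hom (fun b => ∀ g : H, g • b = b) := fun k σ hσ => by
        rw [show v' ^ k = ((bse f' d).appLE V' W' eb).hom 1 * hB (v ^ k) by rw [map_one, one_mul, map_pow]]
        exact mul_mem_Sp _ _ 1 _ (fun b hb g => by rw [smul_mul', smul_pow', hv g, hb g]) hσ
      refine ⟨M + N, v' ^ N * σ + v' ^ M * ρ, add_mem (hvp N σ hσ) (hvp M ρ hρ), ?_⟩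
      rw [map_add γ', map_add β', map_mul β', map_mul β', map_pow β', map_pow β', ← hxe, ← hye, pow_add]
      ring
    | neg x _ hx =>
      obtain ⟨M, σ, hσ, hxe⟩ := hx
      exact ⟨M, -σ, neg_mem hσ, by rw [map_neg, map_neg, neg_mul, neg_mul, hxe]⟩
  obtain ⟨M, σ, hσ, hMσ⟩ := hmem t' ht'Sp
  rw [← hy] at hMσ
  obtain ⟨N, hN⟩ := hβ'.ker (v' ^ M * s - σ) (by
    show β' (v' ^ M * s - σ) = 0
    rw [map_sub, map_mul, map_pow, mul_comm, hMσ, sub_self])
  refine ⟨⟨v, hv⟩ ^ (N + M), ?_, ?_⟩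
  · rw [SubmonoidClass.coe_pow]
    exact fun hq => hvφ (by
      rw [← RingHom.mem_ker, hker]
      exact Ideal.IsPrime.mem_of_pow_mem inferInstance _ hq)
  · rw [mul_sub, sub_eq_zero, ← mul_assoc, ← pow_add] at hN
    rw [SubmonoidClass.coe_pow, map_pow]
    show v' ^ (N + M) * s ∈ _
    rw [hN, show v' ^ N = ((bse f' d).appLE V' W' eb).hom 1 * hB (v ^ N) by rw [map_one, one_mul, map_pow]]
    exact mul_mem_Sp _ _ 1 _ (fun b hb g => by rw [smul_mul', smul_pow', hv g, hb g]) hσ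

end Span

end Groth.L22.SymQuot
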