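import Groth.Agent.L22.SymQuot.Power
import Groth.Agent.L18.SymPowBaseChange
import Mathlib.AlgebraicGeometry.IdealSheaf.Functorial
import Mathlib.AlgebraicGeometry.Morphisms.ClosedImmersion

/-!
# Fibre powers of closed subschemes and of base changes
-/

set_option autoImplicit false
set_option linter.style.haveILetI false
set_option linter.unusedSectionVars false
set_option backward.isDefEq.respectTransparency false

universe u

open CategoryTheory CategoryTheory.Limits AlgebraicGeometry TopologicalSpace

noncomputable section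

namespace Groth.L22.SymQuot

variable {X S : Scheme.{u}}

/-- The fibre power of a closed immersion is a closed immersion. -/
theorem isClosedImmersion_fibPowMap {Z : Scheme.{u}} (g : Z ⟶ S) (f : X ⟶ S) (j : Z ⟶ X) (w : j ≫ f = g)
    [IsClosedImmersion j] (d : ℕ) : IsClosedImmersion (SymProd.fibPowMap g d f j w) := by
  let i' := SymProd.fibPowMap g d f j w
  let K : (SymProd.fibPow f d).IdealSheafData :=
    ⨆ i : Fin d, j.ker.comap (prj f d i)
  have hker : ∀ i, j.ker ≤ (K.subschemeι ≫ prj f d i).ker := fun i => by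
    rw [Scheme.Hom.ker_comp, Scheme.IdealSheafData.ker_subschemeι, Scheme.IdealSheafData.le_map_iff_comap_le]
    exact le_iSup (fun i : Fin d => j.ker.comap (prj f d i)) i
  let s : K.subscheme ⟶ SymProd.fibPow g d :=
    WidePullback.lift (K.subschemeι ≫ bse f d)
      (fun i => IsClosedImmersion.lift j (K.subschemeι ≫ prj f d i) (hker i))
      (fun i => by rw [← w, IsClosedImmersion.lift_fac_assoc, Category.assoc, WidePullback.π_arrow])
  have hs : s ≫ i' = K.subschemeι := by
    apply WidePullback.hom_ext
    · intro i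
      rw [Category.assoc, SymProd.fibPowMap_π, WidePullback.lift_π_assoc, IsClosedImmersion.lift_fac]
    · rw [Category.assoc, SymProd.fibPowMap_base, WidePullback.lift_base]
  have hK : K.subschemeι.ker ≤ i'.ker := by
    rw [Scheme.IdealSheafData.ker_subschemeι]
    refine iSup_le fun i => ?_
    rw [← Scheme.IdealSheafData.le_map_iff_comap_le, ← Scheme.Hom.ker_comp, SymProd.fibPowMap_π]
    exact Scheme.Hom.le_ker_comp _ _
  let r : SymProd.fibPow g d ⟶ K.subscheme := IsClosedImmersion.lift K.subschemeι i' hK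
  have hr : r ≫ K.subschemeι = i' := IsClosedImmersion.lift_fac _ _ _
  have hrs : r ≫ s = 𝟙 _ := by
    apply WidePullback.hom_ext
    · intro i
      rw [← cancel_mono j, Category.assoc r s, WidePullback.lift_π, Category.assoc, IsClosedImmersion.lift_fac,
        ← Category.assoc, hr, Category.id_comp, SymProd.fibPowMap_π]
    · rw [Category.assoc, WidePullback.lift_base, ← Category.assoc, hr, SymProd.fibPowMap_base, Category.id_comp]
  have hsr : s ≫ r = 𝟙 _ := by
    rw [← cancel_mono K.subschemeι, Category.assoc, hr, hs, Category.id_comp]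
  haveI : IsIso r := ⟨s, hrs, hsr⟩
  show IsClosedImmersion i'
  rw [← hr]
  infer_instance

variable {S' X' : Scheme.{u}} (f : X ⟶ S) (f' : X' ⟶ S') (u : X' ⟶ X) (gS : S' ⟶ S) (sq : u ≫ f = f' ≫ gS)
  (d : ℕ)

/-- The comparison with the base change of the fibre power. -/
abbrev toBC : SymProd.fibPow f' d ⟶ pullback (bse f d) gS :=
  pullback.lift (hmap f f' u gS sq d) (bse f' d) (WidePullback.lift_base _ _ _ _)

/-- If `X'` is a closed subscheme of a base change of `X`, so is its fibre power. -/
theorem isClosedImmersion_toBC [IsClosedImmersion (pullback.lift u f' sq)] :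
    IsClosedImmersion (toBC f f' u gS sq d) := by
  let j := pullback.lift u f' sq
  let fS := pullback.snd f gS
  haveI := isClosedImmersion_fibPowMap f' fS j (pullback.lift_snd u f' sq) d
  let c : SymProd.fibPow fS d ⟶ SymProd.fibPow f d := hmap f fS (pullback.fst f gS) gS pullback.condition d
  have H : IsPullback c (bse fS d) (bse f d) gS :=
    Groth.L18.SymPow.isPullback_fibPow f gS c (fun i => WidePullback.lift_π _ _ _ _ i) (WidePullback.lift_base _ _ _ _)
  have e : toBC f f' u gS sq d = SymProd.fibPowMap f' d fS j (pullback.lift_snd u f' sq) ≫ H.isoPullback.hom := by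
    apply pullback.hom_ext
    · rw [pullback.lift_fst, Category.assoc, H.isoPullback_hom_fst]
      apply WidePullback.hom_ext
      · intro i
        rw [WidePullback.lift_π, Category.assoc, WidePullback.lift_π, SymProd.fibPowMap_π_assoc,
          pullback.lift_fst]
      · rw [WidePullback.lift_base, Category.assoc, WidePullback.lift_base, SymProd.fibPowMap_base_assoc]
    · rw [pullback.lift_snd, Category.assoc, H.isoPullback_hom_snd, SymProd.fibPowMap_base]
  rw [e]
  infer_instance

/-- Stable affine opens of the fibre power pull back to affine opens. -/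
theorem isAffineOpen_preimage [IsClosedImmersion (pullback.lift u f' sq)] {V : S.Opens} (hV : IsAffineOpen V)
    {V' : S'.Opens} (hV' : IsAffineOpen V') (hVV : V' ≤ gS ⁻¹ᵁ V) {W : (SymProd.fibPow f d).Opens}
    (hW : IsAffineOpen W) (hWV : W ≤ bse f d ⁻¹ᵁ V) :
    IsAffineOpen (hmap f f' u gS sq d ⁻¹ᵁ W ⊓ bse f' d ⁻¹ᵁ V') := by
  haveI := isClosedImmersion_toBC f f' u gS sq d
  let O := pullback.fst (bse f d) gS ⁻¹ᵁ W ⊓ pullback.snd (bse f d) gS ⁻¹ᵁ V'
  haveI : IsAffine _ := hV
  haveI : IsAffine _ := hV'
  haveI : IsAffine _ := hW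
  have hO : IsAffineOpen O :=
    .of_isIso (Scheme.Hom.isPullback_resLE (IsPullback.of_hasPullback (bse f d) gS) hVV hWV (UY := O) rfl).isoPullback.hom
  have h := hO.preimage (toBC f f' u gS sq d)
  have e : toBC f f' u gS sq d ⁻¹ᵁ O = hmap f f' u gS sq d ⁻¹ᵁ W ⊓ bse f' d ⁻¹ᵁ V' := by
    show toBC f f' u gS sq d ⁻¹ᵁ (pullback.fst (bse f d) gS ⁻¹ᵁ W) ⊓ toBC f f' u gS sq d ⁻¹ᵁ (pullback.snd (bse f d) gS ⁻¹ᵁ V') = _
    rw [← Scheme.Hom.comp_preimage, ← Scheme.Hom.comp_preimage, pullback.lift_fst, pullback.lift_snd]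
  rwa [e] at h

end Groth.L22.SymQuot
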