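import Groth.Agent.L22.SymQuot.BaseChange
import Groth.Agent.L22.SymQuot.Box

/-!
# Products of quotients, and flatness of fibre powers
-/

set_option autoImplicit false
set_option linter.style.haveILetI false
set_option linter.unusedSectionVars false
set_option backward.isDefEq.respectTransparency false

universe u

open CategoryTheory CategoryTheory.Limits AlgebraicGeometry

noncomputable section

namespace Groth.L22.SymQuot

variable {X S : Scheme.{u}}

/-- Fibre powers of flat morphisms are flat. -/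
theorem flat_bse (f : X ⟶ S) [Flat f] : ∀ d : ℕ, Flat (bse f d)
  | 0 => by
    haveI : IsIso (bse f 0) := by
      refine ⟨WidePullback.lift (𝟙 S) (fun i => i.elim0) (fun i => i.elim0), ?_, WidePullback.lift_base _ _ _ _⟩
      apply WidePullback.hom_ext
      · intro i; exact i.elim0
      · rw [Category.assoc, WidePullback.lift_base, Category.comp_id, Category.id_comp]
    infer_instance
  | d + 1 => by
    haveI := flat_bse f d
    let a : SymProd.fibPow f (d + 1) ⟶ pullback (bse f d) f :=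
      pullback.lift (WidePullback.lift (bse f (d + 1)) (fun i => prj f (d + 1) i.castSucc)
          (fun i => WidePullback.π_arrow _ _))
        (prj f (d + 1) (Fin.last d)) (by rw [WidePullback.lift_base, WidePullback.π_arrow])
    let b : pullback (bse f d) f ⟶ SymProd.fibPow f (d + 1) :=
      WidePullback.lift (pullback.snd (bse f d) f ≫ f)
        (Fin.lastCases (pullback.snd (bse f d) f) (fun i => pullback.fst (bse f d) f ≫ prj f d i))
        (fun j => by
          cases j using Fin.lastCases with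
          | last => simp
          | cast i => simp [pullback.condition])
    have hab : a ≫ b = 𝟙 _ := by
      apply WidePullback.hom_ext
      · intro j
        cases j using Fin.lastCases with
        | last => simp [a, b]
        | cast i => simp [a, b]
      · simp [a, b]
    have hba : b ≫ a = 𝟙 _ := by
      apply pullback.hom_ext
      · apply WidePullback.hom_ext
        · intro i; simp [a, b]
        · simp [a, b, pullback.condition]
      · simp [a, b]
    haveI : IsIso a := ⟨b, hab, hba⟩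
    have e : a ≫ pullback.snd (bse f d) f ≫ f = bse f (d + 1) := by simp [a]
    rw [← e]
    infer_instance

variable {A B C : Scheme.{u}} {G H K : Type u} [Group G] [Group H] [Group K]

/-- A quotient by one factor followed by a quotient by the other is a quotient by the product. -/
theorem isQuot_comp {ρ : K →* Aut A} (ι₁ : G →* K) (ι₂ : H →* K) (hgen : ∀ k : K, ∃ g h, k = ι₁ g * ι₂ h)
    {q₁ : A ⟶ B} (h₁ : SGA1.IsQuot (ρ.comp ι₁) q₁) {ρ₂ : H →* Aut B} {q₂ : B ⟶ C} (h₂ : SGA1.IsQuot ρ₂ q₂)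
    (hc : ∀ h : H, (ρ (ι₂ h)).hom ≫ q₁ = q₁ ≫ (ρ₂ h).hom) : SGA1.IsQuot ρ (q₁ ≫ q₂) := by
  haveI := h₁.affine
  haveI := h₂.affine
  have hinv : ∀ k : K, (ρ k).hom ≫ q₁ ≫ q₂ = q₁ ≫ q₂ := fun k => by
    obtain ⟨g, h, rfl⟩ := hgen k
    have e₁ : (ρ (ι₁ g)).hom ≫ q₁ = q₁ := h₁.inv g
    rw [Groth.L27.Quot.hom_mul, Category.assoc, reassoc_of% e₁, reassoc_of% (hc h), h₂.inv h]
  refine ⟨inferInstance, hinv, fun U => ?_, fun U s => ?_⟩
  · rw [Scheme.Hom.comp_app]
    exact (h₁.injective (q₂ ⁻¹ᵁ U)).comp (h₂.injective U)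
  · constructor
    · rintro ⟨a, rfl⟩ k
      exact ConcreteCategory.congr_hom (Groth.L27.Quot.act_app hinv k U) a
    · intro hs
      obtain ⟨t, ht⟩ := (h₁.range_iff (q₂ ⁻¹ᵁ U) s).2 fun g => hs (ι₁ g)
      have key : ∀ h : H, (q₁.app (q₂ ⁻¹ᵁ U)).hom (((ρ₂ h).hom.appLE (q₂ ⁻¹ᵁ U) (q₂ ⁻¹ᵁ U)
          (SGA1.preimage_le_of_inv ρ₂ q₂ h₂.inv h U)).hom t) = (q₁.app (q₂ ⁻¹ᵁ U)).hom t := fun h => by
        refine ((ConcreteCategory.congr_hom (?_ : q₁.app (q₂ ⁻¹ᵁ U) ≫ (ρ (ι₂ h)).hom.appLE _ _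
          (SGA1.preimage_le_of_inv ρ (q₁ ≫ q₂) hinv (ι₂ h) U) = (ρ₂ h).hom.appLE _ _ _ ≫ q₁.app (q₂ ⁻¹ᵁ U))
          t).symm).trans ?_
        · rw [Scheme.Hom.app_eq_appLE, Scheme.Hom.appLE_comp_appLE, Scheme.Hom.appLE_comp_appLE,
            Groth.L27.Quot.appLE_eq_of_eq (hc h)]
          rfl
        · show ((ρ (ι₂ h)).hom.appLE _ _ _).hom ((q₁.app (q₂ ⁻¹ᵁ U)).hom t) = _
          rw [ht]; exact hs (ι₂ h)
      obtain ⟨a, ha⟩ := (h₂.range_iff U t).2 fun h => h₁.injective _ (key h)
      exact ⟨a, by rw [Scheme.Hom.comp_app, ← ht, ← ha]; rfl⟩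

end Groth.L22.SymQuot
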