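import Groth.Agent.L22.SymQuot.Main
import Groth.Agent.L22.SymQuot.Pow
import Groth.Agent.L27.Quot.Affine
import Groth.Agent.L27.Quot.Residue
import Mathlib.AlgebraicGeometry.PullbackCarrier

/-!
# Symmetric products: flatness and comparison maps
-/

set_option autoImplicit false
set_option linter.style.haveILetI false
set_option linter.unusedSectionVars false
set_option backward.isDefEq.respectTransparency false

universe u

open CategoryTheory CategoryTheory.Limits AlgebraicGeometry TopologicalSpace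

noncomputable section

namespace Groth.L22.SymQuot

theorem flat_of_field {X : Scheme.{u}} {k : CommRingCat.{u}} (hk : IsField k) (f : X ⟶ Spec k) : Flat f := by
  rw [HasRingHomProperty.iff_appLE (P := @Flat)]
  intro U V e
  haveI : Subsingleton ↥(Spec k) := ⟨fun a b => by
    letI := hk.toField
    exact PrimeSpectrum.ext ((Ideal.eq_bot_of_prime a.asIdeal).trans (Ideal.eq_bot_of_prime b.asIdeal).symm)⟩
  rcases Set.eq_empty_or_nonempty (U.1 : Set (Spec k)) with h | ⟨x, hx⟩
  · have : (U.1 : (Spec k).Opens) = ⊥ := TopologicalSpace.Opens.ext h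
    have : Subsingleton Γ(Spec k, U.1) := by rw [this]; infer_instance
    have : Subsingleton Γ(X, V.1) := RingHom.codomain_trivial (f.appLE U.1 V.1 e).hom
    exact RingHom.Flat.of_bijective ⟨fun a b _ => Subsingleton.elim a b, fun b => ⟨0, Subsingleton.elim _ _⟩⟩
  · have hU : (U.1 : (Spec k).Opens) = ⊤ :=
      TopologicalSpace.Opens.ext (Set.eq_univ_of_forall fun y => Subsingleton.elim x y ▸ hx)
    refine RingHom.Flat.of_isField ?_ _
    rw [hU]
    exact (Scheme.ΓSpecIso k).commRingCatIsoToRingEquiv.toMulEquiv.isField hk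

theorem fromSpecResidueField_app_top {S : Scheme.{u}} (y : S) {V : S.Opens} (hy : y ∈ V)
    (e : (⊤ : (Spec (S.residueField y)).Opens) ≤ S.fromSpecResidueField y ⁻¹ᵁ V) :
    (S.fromSpecResidueField y).appLE V ⊤ e = S.evaluation V y hy ≫ (Scheme.ΓSpecIso (S.residueField y)).inv := by
  have h1 : (⊤ : (Spec (S.presheaf.stalk y)).Opens) ≤ S.fromSpecStalk y ⁻¹ᵁ V := fun z _ => by
    have hz : z ⤳ IsLocalRing.closedPoint (S.presheaf.stalk y) := IsLocalRing.specializes_closedPoint z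
    exact (hz.map (S.fromSpecStalk y).continuous).mem_open V.2 (by rw [Scheme.fromSpecStalk_closedPoint]; exact hy)
  change (Spec.map (S.residue y) ≫ S.fromSpecStalk y).appLE V ⊤ e = _
  rw [← Scheme.Hom.appLE_comp_appLE (Spec.map (S.residue y)) (S.fromSpecStalk y) V ⊤ ⊤ h1 le_top,
    show (S.fromSpecStalk y).appLE V ⊤ h1 = S.presheaf.germ V y hy ≫ (Scheme.ΓSpecIso _).inv by
      rw [Scheme.Hom.appLE, Scheme.fromSpecStalk_app hy, Category.assoc, Category.assoc, ← Functor.map_comp]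
      congr 1,
    Category.assoc, show (Spec.map (S.residue y)).appLE ⊤ ⊤ le_top = (Spec.map (S.residue y)).appTop from
      Scheme.Hom.appLE_eq_app _, ← Scheme.ΓSpecIso_inv_naturality, ← Category.assoc]
  rfl

variable {X S Y : Scheme.{u}} {f : X ⟶ S} {d : ℕ} {q : SymProd.fibPow f d ⟶ Y} {g : Y ⟶ S}
  (hq : SymProd.IsSymProd f d q g)

include hq

theorem stable_preimage (U : Y.Opens) : Stable f d (q ⁻¹ᵁ U) := fun σ p hp => by
  show q.base ((mv f d σ).base p) ∈ U
  have h := hq.isQuot.inv ⟨σ.down.symm⟩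
  rw [SymProd.permActU_hom] at h
  rw [← Scheme.Hom.comp_apply, h]
  exact hp

theorem preimage_le_bse {U : Y.Opens} {V : S.Opens} (hUV : U ≤ g ⁻¹ᵁ V) : q ⁻¹ᵁ U ≤ bse f d ⁻¹ᵁ V := fun p hp => by
  show (bse f d).base p ∈ V
  have h := hUV hp
  rw [Scheme.Hom.mem_preimage, ← Scheme.Hom.comp_apply, hq.over] at h
  exact h

/-- Sections of the symmetric product are the invariant sections. -/
theorem mem_range_app_iff (U : Y.Opens) (s : Γ(SymProd.fibPow f d, q ⁻¹ᵁ U)) :
    letI := actOn (stable_preimage hq U)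
    s ∈ Set.range (q.app U).hom ↔ ∀ σ : GP.{u} d, σ • s = s := by
  letI := actOn (stable_preimage hq U)
  rw [hq.isQuot.range_iff]
  have key : ∀ (σ : GP.{u} d) e, ((SymProd.permActU f d σ).hom.appLE (q ⁻¹ᵁ U) (q ⁻¹ᵁ U) e).hom s =
      (⟨σ.down.symm⟩ : GP.{u} d) • s := fun σ e => by
    show _ = ((mv f d ⟨σ.down.symm⟩).appLE _ _ _).hom s
    rw [appLE_congr_apply (show (SymProd.permActU f d σ).hom = mv f d ⟨σ.down.symm⟩ by
      rw [SymProd.permActU_hom]; rfl)]
  constructor
  · intro h σ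
    exact (key ⟨σ.down.symm⟩ _).symm.trans (h ⟨σ.down.symm⟩)
  · intro h σ
    rw [key]
    exact h _

/-- The symmetric product of a flat morphism is flat. -/
theorem flat_symProd [Flat f] : Flat g := by
  rw [HasRingHomProperty.iff_exists_appLE (P := @Flat) (RingHom.Flat.stableUnderComposition.stableUnderCompositionWithLocalizationAway RingHom.Flat.holdsForLocalizationAway).left]
  intro y
  obtain ⟨V, hV, hyV, -⟩ := exists_isAffineOpen_mem_and_subset (X := S) (U := ⊤) (x := g.base y) trivial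
  obtain ⟨U, hU, hyU, hUV⟩ := exists_isAffineOpen_mem_and_subset (X := Y) (U := g ⁻¹ᵁ V) (x := y) hyV
  refine ⟨⟨V, hV⟩, ⟨U, hU⟩, hyU, hUV, ?_⟩
  haveI := hq.isQuot.affine
  let W := q ⁻¹ᵁ U
  have hWs := stable_preimage hq U
  have hWV := preimage_le_bse hq hUV
  letI := actOn hWs
  letI : Algebra Γ(S, V) Γ(Y, U) := (g.appLE V U hUV).hom.toAlgebra
  letI : Algebra Γ(S, V) Γ(SymProd.fibPow f d, W) := ((bse f d).appLE V W hWV).hom.toAlgebra
  let qa : Γ(Y, U) →ₐ[Γ(S, V)] Γ(SymProd.fibPow f d, W) :=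
    { (q.app U).hom with
      commutes' := fun r => by
        show (g.appLE V U hUV ≫ q.app U).hom r = ((bse f d).appLE V W hWV).hom r
        rw [Scheme.Hom.app_eq_appLE, Scheme.Hom.appLE_comp_appLE, appLE_congr_apply hq.over] }
  haveI := flat_invariants_of_stable hV (hU.preimage q) hWs hWV qa.range fun b => mem_range_app_iff hq U b
  exact Module.Flat.of_linearEquiv (AlgEquiv.ofInjective qa (hq.isQuot.injective U)).toLinearEquiv

section Comparison

variable {S' X' Y' : Scheme.{u}} {f' : X' ⟶ S'} (u : X' ⟶ X) (gS : S' ⟶ S) (sq : u ≫ f = f' ≫ gS)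
  [IsClosedImmersion (pullback.lift u f' sq)] {r : SymProd.fibPow f' d ⟶ Y'} {g' : Y' ⟶ S'}
  (hr : SymProd.IsSymProd f' d r g') (m : Y' ⟶ pullback g gS)
  (hm₁ : r ≫ m ≫ pullback.fst g gS = hmap f f' u gS sq d ≫ q) (hm₂ : m ≫ pullback.snd g gS = g')

include hr hm₁ hm₂

theorem preimage_chart (U : Y.Opens) (V' : S'.Opens) :
    r ⁻¹ᵁ (m ⁻¹ᵁ (pullback.fst g gS ⁻¹ᵁ U ⊓ pullback.snd g gS ⁻¹ᵁ V')) =
      hmap f f' u gS sq d ⁻¹ᵁ (q ⁻¹ᵁ U) ⊓ bse f' d ⁻¹ᵁ V' := by
  show r ⁻¹ᵁ (m ⁻¹ᵁ (pullback.fst g gS ⁻¹ᵁ U)) ⊓ r ⁻¹ᵁ (m ⁻¹ᵁ (pullback.snd g gS ⁻¹ᵁ V')) = _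
  rw [← Scheme.Hom.comp_preimage, ← Scheme.Hom.comp_preimage, ← Scheme.Hom.comp_preimage,
    ← Scheme.Hom.comp_preimage, ← Scheme.Hom.comp_preimage, Category.assoc, hm₁, Category.assoc, hm₂, hr.over]

theorem isAffineHom_comparison : IsAffineHom m := by
  haveI := hq.isQuot.affine
  haveI := isClosedImmersion_toBC f f' u gS sq d
  haveI : IsAffineHom (r ≫ m) := by
    have e : r ≫ m = toBC f f' u gS sq d ≫
        pullback.map (bse f d) gS g gS q (𝟙 S') (𝟙 S) ((Category.comp_id _).trans hq.over.symm) (by simp) := by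
      apply pullback.hom_ext
      · rw [Category.assoc, hm₁, Category.assoc, pullback.lift_fst, pullback.lift_fst_assoc]
      · rw [Category.assoc, hm₂, Category.assoc, pullback.lift_snd, Category.comp_id, pullback.lift_snd, hr.over]
    rw [e]
    haveI : IsAffineHom (pullback.map (bse f d) gS g gS q (𝟙 S') (𝟙 S)
        ((Category.comp_id _).trans hq.over.symm) (by simp)) :=
      MorphismProperty.pullbackMap (P := @IsAffineHom) hq.isQuot.affine inferInstance hq.over.symm
        (Category.id_comp gS).symm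
    infer_instance
  exact Groth.L27.Quot.isAffineHom_of_comp hr.isQuot m

/-- Every section over a chart comes from the target when the invariants are spanned. -/
theorem app_surjective {V : S.Opens} (hV : IsAffineOpen V) {U : Y.Opens} (hU : IsAffineOpen U)
    (hUV : U ≤ g ⁻¹ᵁ V) {V' : S'.Opens} (hV' : IsAffineOpen V') (hVV : V' ≤ gS ⁻¹ᵁ V)
    (h : Flat f' ∨ IsUnit ((d.factorial : ℕ) : Γ(S', V'))) :
    Function.Surjective (m.app (pullback.fst g gS ⁻¹ᵁ U ⊓ pullback.snd g gS ⁻¹ᵁ V')).hom := by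
  intro x
  let O := pullback.fst g gS ⁻¹ᵁ U ⊓ pullback.snd g gS ⁻¹ᵁ V'
  haveI := hq.isQuot.affine
  have hW := hU.preimage q
  have hWs := stable_preimage hq U
  have hWV := preimage_le_bse hq hUV
  have eW := preimage_chart hq u gS sq hr m hm₁ hm₂ U V'
  have hWs' := stable_preimage hr (m ⁻¹ᵁ O)
  have hW' : IsAffineOpen (r ⁻¹ᵁ (m ⁻¹ᵁ O)) := eW ▸ isAffineOpen_preimage f f' u gS sq d hV hV' hVV hW hWV
  letI := actOn hWs
  letI := actOn hWs'
  have hs := (mem_range_app_iff hr (m ⁻¹ᵁ O) ((r.app (m ⁻¹ᵁ O)).hom x)).1 ⟨x, rfl⟩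
  have hsp := mem_Sp_of_stable hV hW hWs hWV f' u gS sq hV' hVV hW' hWs' eW h _ hs
  let K : AddSubgroup Γ(SymProd.fibPow f' d, r ⁻¹ᵁ (m ⁻¹ᵁ O)) :=
    ((r.app (m ⁻¹ᵁ O)).hom.comp (m.app O).hom).toAddMonoidHom.range
  have hK : (r.app (m ⁻¹ᵁ O)).hom x ∈ K := by
    refine (AddSubgroup.closure_le K).2 ?_ hsp
    rintro _ ⟨c, b, hb, rfl⟩
    obtain ⟨b0, rfl⟩ := (mem_range_app_iff hq U b).2 hb
    refine ⟨((pullback.snd g gS).appLE V' O inf_le_right).hom c * ((pullback.fst g gS).appLE U O inf_le_left).hom b0, ?_⟩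
    show (r.app (m ⁻¹ᵁ O)).hom ((m.app O).hom (_ * _)) = _
    rw [map_mul, map_mul]
    congr 1
    · rw [Scheme.Hom.app_eq_appLE, Scheme.Hom.app_eq_appLE, appLE_appLE_apply, appLE_appLE_apply,
        appLE_congr_apply (show (r ≫ m) ≫ pullback.snd g gS = bse f' d by rw [Category.assoc, hm₂, hr.over])]
    · rw [Scheme.Hom.app_eq_appLE, Scheme.Hom.app_eq_appLE, appLE_appLE_apply, appLE_appLE_apply,
        Scheme.Hom.app_eq_appLE, appLE_appLE_apply, appLE_congr_apply (show (r ≫ m) ≫ pullback.fst g gS = hmap f f' u gS sq d ≫ q by rw [Category.assoc, hm₁])]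
  obtain ⟨y, hy⟩ := hK
  exact ⟨y, hr.isQuot.injective _ hy⟩

theorem exists_chart_base (y : ↥(pullback g gS)) :
    ∃ (V : S.Opens) (U : Y.Opens) (V' : S'.Opens), IsAffineOpen V ∧ IsAffineOpen U ∧ U ≤ g ⁻¹ᵁ V ∧
      IsAffineOpen V' ∧ V' ≤ gS ⁻¹ᵁ V ∧ y ∈ pullback.fst g gS ⁻¹ᵁ U ⊓ pullback.snd g gS ⁻¹ᵁ V' := by
  obtain ⟨V, hV, hyV, -⟩ := exists_isAffineOpen_mem_and_subset (X := S) (U := ⊤)
    (x := g.base ((pullback.fst g gS).base y)) trivial
  obtain ⟨U, hU, hyU, hUV⟩ := exists_isAffineOpen_mem_and_subset (X := Y) (U := g ⁻¹ᵁ V)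
    (x := (pullback.fst g gS).base y) hyV
  have hyV' : (pullback.snd g gS).base y ∈ gS ⁻¹ᵁ V := by
    show gS.base ((pullback.snd g gS).base y) ∈ V
    rw [← Scheme.Hom.comp_apply, ← pullback.condition, Scheme.Hom.comp_apply]; exact hyV
  obtain ⟨V', hV', hyV'', hVV⟩ := exists_isAffineOpen_mem_and_subset (X := S') (U := gS ⁻¹ᵁ V) hyV'
  exact ⟨V, U, V', hV, hU, hUV, hV', hVV, hyU, hyV''⟩

/-- The comparison map is a closed immersion for flat subschemes or invertible `d!`. -/
theorem isClosedImmersion_comparison (h : Flat f' ∨ IsUnit ((d.factorial : ℕ) : Γ(S', ⊤))) :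
    IsClosedImmersion m := by
  haveI := isAffineHom_comparison hq u gS sq hr m hm₁ hm₂
  choose V U V' hV hU hUV hV' hVV hy using exists_chart_base hq u gS sq hr m hm₁ hm₂
  let O : ↥(pullback g gS) → (pullback g gS).Opens := fun y =>
    pullback.fst g gS ⁻¹ᵁ U y ⊓ pullback.snd g gS ⁻¹ᵁ V' y
  refine IsZariskiLocalAtTarget.of_iSup_eq_top (P := @IsClosedImmersion) O
    (eq_top_iff.2 fun y _ => Opens.mem_iSup.2 ⟨y, hy y⟩) fun y => ?_
  haveI : IsAffine _ := hV y
  haveI : IsAffine _ := hV' y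
  haveI : IsAffine _ := hU y
  have hO : IsAffineOpen (O y) :=
    .of_isIso (Scheme.Hom.isPullback_resLE (IsPullback.of_hasPullback g gS) (hVV y) (hUV y) (UY := O y) rfl).isoPullback.hom
  haveI : IsAffine (O y).toScheme := hO
  haveI : IsAffine (m ⁻¹ᵁ O y).toScheme := hO.preimage m
  refine IsClosedImmersion.of_surjective_of_isAffine _ ?_
  have hsurj := app_surjective hq u gS sq hr m hm₁ hm₂ (hV y) (hU y) (hUV y) (hV' y) (hVV y)
    (h.imp_right fun hd => by
      have h2 := hd.map (S'.presheaf.map (homOfLE (le_top : V' y ≤ ⊤)).op).hom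
      rwa [map_natCast] at h2)
  have key : ∀ O' : (pullback g gS).Opens, O' = O y → ∀ (Z : CommRingCat.{u}) (φ : Γ(Y', m ⁻¹ᵁ O') ⟶ Z),
      IsIso φ → Function.Surjective (m.app O' ≫ φ).hom := by
    rintro _ rfl Z φ _; exact (ConcreteCategory.bijective_of_isIso φ).2.comp hsurj
  rw [morphismRestrict_appTop]
  exact key _ (O y).ι_image_top _ _ inferInstance

end Comparison

/-- The comparison map has trivial residue field extensions. -/
theorem isIso_residueFieldMap {S' X' Y' : Scheme.{u}} {f' : X' ⟶ S'} (u : X' ⟶ X) (gS : S' ⟶ S)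
    (sq : u ≫ f = f' ≫ gS) [IsClosedImmersion (pullback.lift u f' sq)] {r : SymProd.fibPow f' d ⟶ Y'}
    {g' : Y' ⟶ S'} (hr : SymProd.IsSymProd f' d r g') (m : Y' ⟶ pullback g gS)
    (hm₁ : r ≫ m ≫ pullback.fst g gS = hmap f f' u gS sq d ≫ q) (hm₂ : m ≫ pullback.snd g gS = g') (y' : Y') :
    IsIso (m.residueFieldMap y') := by
  classical
  haveI := hq.isQuot.affine
  haveI := isAffineHom_comparison hq u gS sq hr m hm₁ hm₂
  obtain ⟨x', rfl⟩ := Groth.L27.Quot.surjective hr.isQuot y'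
  let s' : S' := (bse f' d).base x'
  let ι := S'.fromSpecResidueField s'
  let f'' := pullback.snd f' ι
  let gS'' := ι ≫ gS
  let u'' := pullback.fst f' ι ≫ u
  have sq'' : u'' ≫ f = f'' ≫ gS'' := by
    rw [Category.assoc, sq, ← Category.assoc, pullback.condition, Category.assoc]
  haveI : IsClosedImmersion (pullback.lift u'' f'' sq'') := by
    have e : pullback.lift u'' f'' sq'' = pullback.map f' ι (pullback.snd f gS) ι (pullback.lift u f' sq) (𝟙 _)
        (𝟙 S') (by rw [Category.comp_id, pullback.lift_snd]) (by rw [Category.comp_id, Category.id_comp]) ≫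
          (pullbackLeftPullbackSndIso f gS ι).hom := by
      apply pullback.hom_ext
      · rw [pullback.lift_fst, Category.assoc, pullbackLeftPullbackSndIso_hom_fst, pullback.lift_fst_assoc,
          Category.assoc, pullback.lift_fst]
      · rw [pullback.lift_snd, Category.assoc, pullbackLeftPullbackSndIso_hom_snd, pullback.lift_snd,
          Category.comp_id]
    rw [e]
    haveI : IsClosedImmersion (pullback.map f' ι (pullback.snd f gS) ι (pullback.lift u f' sq) (𝟙 _)
        (𝟙 S') (by rw [Category.comp_id, pullback.lift_snd]) (by rw [Category.comp_id, Category.id_comp])) :=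
      MorphismProperty.pullbackMap (P := @IsClosedImmersion) inferInstance inferInstance
        (pullback.lift_snd u f' sq).symm (Category.id_comp ι).symm
    infer_instance
  let c := hmap f' f'' (pullback.fst f' ι) ι pullback.condition d
  have H : IsPullback c (bse f'' d) (bse f' d) ι :=
    Groth.L18.SymPow.isPullback_fibPow f' ι c (fun i => WidePullback.lift_π _ _ _ _ i) (WidePullback.lift_base _ _ _ _)
  obtain ⟨x'', hx''⟩ : ∃ x'', c.base x'' = x' := by
    have hs : s' ∈ Set.range ι.base := by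
      rw [Scheme.range_fromSpecResidueField]; rfl
    obtain ⟨p, hp⟩ := hs
    obtain ⟨z, hz, -⟩ := Scheme.exists_preimage_of_isPullback H x' p hp.symm
    exact ⟨z, hz⟩
  have hcc : c ≫ hmap f f' u gS sq d = hmap f f'' u'' gS'' sq'' d := by
    apply WidePullback.hom_ext
    · intro i
      simp [c, u'']
    · simp [c, gS'']
  obtain ⟨V, U, V', hV, hU, hUV, hV', hVV, hy⟩ := exists_chart_base hq u gS sq hr m hm₁ hm₂ (m.base (r.base (c.base x'')))
  let O := pullback.fst g gS ⁻¹ᵁ U ⊓ pullback.snd g gS ⁻¹ᵁ V'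
  haveI : IsAffine _ := hV
  haveI : IsAffine _ := hV'
  haveI : IsAffine _ := hU
  have hO : IsAffineOpen O :=
    .of_isIso (Scheme.Hom.isPullback_resLE (IsPullback.of_hasPullback g gS) hVV hUV (UY := O) rfl).isoPullback.hom
  have eW' := preimage_chart hq u gS sq hr m hm₁ hm₂ U V'
  have hxW' : c.base x'' ∈ hmap f f' u gS sq d ⁻¹ᵁ (q ⁻¹ᵁ U) ⊓ bse f' d ⁻¹ᵁ V' := eW' ▸ hy
  -- the fibre
  have hone : ∀ p : Spec (S'.residueField s'), ι.base p = s' := fun p => Scheme.fromSpecResidueField_apply s' p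
  have hs'V : s' ∈ V' := by
    show (bse f' d).base x' ∈ V'
    rw [← hx'']
    exact hxW'.2
  have hVι : (⊤ : (Spec (S'.residueField s')).Opens) ≤ gS'' ⁻¹ᵁ V := fun p _ => by
    show gS''.base p ∈ V
    rw [Scheme.Hom.comp_apply, hone]
    exact hVV hs'V
  have hιV : (⊤ : (Spec (S'.residueField s')).Opens) ≤ ι ⁻¹ᵁ V' := fun p _ => by
    show ι.base p ∈ V'
    rw [hone]; exact hs'V
  let W'' := hmap f f'' u'' gS'' sq'' d ⁻¹ᵁ (q ⁻¹ᵁ U) ⊓ bse f'' d ⁻¹ᵁ ⊤
  have hWV := preimage_le_bse hq hUV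
  have hWs := stable_preimage hq U
  have hW'' : IsAffineOpen W'' :=
    isAffineOpen_preimage f f'' u'' gS'' sq'' d hV (isAffineOpen_top _) hVι (hU.preimage q) hWV
  have hWs'' : Stable f'' d W'' := fun σ p hp => by
    refine ⟨?_, trivial⟩
    show (hmap f f'' u'' gS'' sq'' d).base ((mv f'' d σ).base p) ∈ q ⁻¹ᵁ U
    rw [← Scheme.Hom.comp_apply, mv_hmap f f'' u'' gS'' sq'' σ, Scheme.Hom.comp_apply]
    exact hWs σ hp.1
  haveI : Flat f'' := by
    exact flat_of_field (Field.toIsField _) f''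
  have hxW'' : x'' ∈ W'' := by
    refine ⟨?_, trivial⟩
    show (hmap f f'' u'' gS'' sq'' d).base x'' ∈ q ⁻¹ᵁ U
    rw [← hcc, Scheme.Hom.comp_apply]
    exact hxW'.1
  -- the composite to the fibre power of the fibre
  let ψ := c ≫ r
  let Φ := m.residueFieldMap (ψ.base x'') ≫ ψ.residueFieldMap x''
  have hΦv : ∀ (a : Γ(pullback g gS, O)) (e : W'' ≤ (ψ ≫ m) ⁻¹ᵁ O),
      ((SymProd.fibPow f'' d).evaluation W'' x'' hxW'').hom (((ψ ≫ m).appLE O W'' e).hom a) ∈ Φ.hom.range := by
    intro a e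
    refine ⟨((pullback g gS).evaluation O (m.base (ψ.base x'')) hy).hom a, ?_⟩
    rw [← Groth.L27.Quot.evaluation_appLE (ψ ≫ m) e x'' hxW'', Scheme.residueFieldMap_comp]
    rfl
  have eO : W'' ≤ (ψ ≫ m) ⁻¹ᵁ O := fun p hp => by
    show c.base p ∈ r ⁻¹ᵁ (m ⁻¹ᵁ O)
    rw [eW']
    refine ⟨?_, ?_⟩
    · show (hmap f f' u gS sq d).base (c.base p) ∈ q ⁻¹ᵁ U
      rw [← Scheme.Hom.comp_apply, hcc]; exact hp.1
    · show (bse f' d).base (c.base p) ∈ V'
      rw [← Scheme.Hom.comp_apply, H.w, Scheme.Hom.comp_apply]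
      exact hιV trivial
  letI := actOn hWs
  letI := actOn hWs''
  let ev := ((SymProd.fibPow f'' d).evaluation W'' x'' hxW'').hom
  -- invariant sections take values in the image of the target
  have hval : ∀ s : Γ(SymProd.fibPow f'' d, W''), (∀ σ : GP.{u} d, σ • s = s) → ev s ∈ Φ.hom.range := by
    intro s hs
    have hsp := mem_Sp_of_stable hV (hU.preimage q) hWs hWV f'' u'' gS'' sq'' (isAffineOpen_top _) hVι hW'' hWs''
      rfl (Or.inl inferInstance) s hs
    refine (AddSubgroup.closure_le ((RingHom.range Φ.hom).toAddSubgroup.comap ev.toAddMonoidHom)).2 ?_ hsp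
    rintro _ ⟨z, b, hb, rfl⟩
    show ev (_ * _) ∈ Φ.hom.range
    rw [map_mul]
    refine mul_mem ?_ ?_
    · -- scalars
      let z' := (Scheme.ΓSpecIso (S'.residueField s')).hom.hom z
      obtain ⟨a, b, hb0, hab⟩ := Groth.L27.Quot.eval_eq_div hV' s' hs'V z'
      have hsv : ∀ a : Γ(S', V'), (ι.appLE V' ⊤ hιV).hom a =
          (Scheme.ΓSpecIso (S'.residueField s')).inv.hom ((S'.evaluation V' s' hs'V).hom a) := fun a => by
        rw [← CommRingCat.comp_apply]
        rw [fromSpecResidueField_app_top s' hs'V hιV]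
      have hz : z * (ι.appLE V' ⊤ hιV).hom b = (ι.appLE V' ⊤ hιV).hom a := by
        rw [hsv, hsv]
        apply (ConcreteCategory.bijective_of_isIso (Scheme.ΓSpecIso (S'.residueField s')).hom).injective
        rw [map_mul, Iso.inv_hom_id_apply, Iso.inv_hom_id_apply]
        show z' * _ = _
        rw [hab, div_mul_cancel₀ _ hb0]
      let A := fun a : Γ(S', V') => ev (((bse f'' d).appLE ⊤ W'' le_top).hom ((ι.appLE V' ⊤ hιV).hom a))
      have hA : ∀ a, A a ∈ Φ.hom.range := fun a => by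
        have h := hΦv (((pullback.snd g gS).appLE V' O inf_le_right).hom a) eO
        have e2 : (((ψ ≫ m).appLE O W'' eO).hom (((pullback.snd g gS).appLE V' O inf_le_right).hom a)) =
            ((bse f'' d).appLE ⊤ W'' le_top).hom ((ι.appLE V' ⊤ hιV).hom a) := by
          rw [appLE_appLE_apply, appLE_appLE_apply, appLE_congr_apply (show (ψ ≫ m) ≫ pullback.snd g gS =
            bse f'' d ≫ ι by
              simp only [ψ, Category.assoc]
              rw [hm₂, hr.over, H.w])]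
        rwa [e2] at h
      have hAb : A b ≠ 0 := by
        intro h0
        apply hb0
        have := (ev.comp ((bse f'' d).appLE ⊤ W'' le_top).hom).comp (Scheme.ΓSpecIso (S'.residueField s')).inv.hom |>.injective
        apply this
        rw [map_zero]
        simp only [A, hsv] at h0
        exact h0
      obtain ⟨A', hA'⟩ := hA a
      obtain ⟨B', hB'⟩ := hA b
      refine ⟨A' / B', ?_⟩
      rw [map_div₀, hA', hB', div_eq_iff hAb]
      show A a = _ * A b
      simp only [A, ← map_mul, hz]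
    · obtain ⟨b0, rfl⟩ := (mem_range_app_iff hq U b).2 hb
      have h := hΦv (((pullback.fst g gS).appLE U O inf_le_left).hom b0) eO
      have e2 : (((ψ ≫ m).appLE O W'' eO).hom (((pullback.fst g gS).appLE U O inf_le_left).hom b0)) =
          ((hmap f f'' u'' gS'' sq'' d).appLE (q ⁻¹ᵁ U) W'' inf_le_left).hom ((q.app U).hom b0) := by
        rw [Scheme.Hom.app_eq_appLE, appLE_appLE_apply, appLE_appLE_apply,
          appLE_congr_apply (show (ψ ≫ m) ≫ pullback.fst g gS = hmap f f'' u'' gS'' sq'' d ≫ q by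
            simp only [ψ, Category.assoc]
            rw [hm₁, ← Category.assoc, hcc])]
      rwa [e2] at h
  -- conclude
  have hsurj : Function.Surjective (m.residueFieldMap (ψ.base x'')).hom := by
    intro z
    obtain ⟨a, b, hb0, rfl⟩ := Groth.L27.Quot.eval_eq_div (hO.preimage m) (ψ.base x'') hy z
    have hin : ∀ a : Γ(Y', m ⁻¹ᵁ O), (ψ.residueFieldMap x'').hom ((Y'.evaluation _ (ψ.base x'') hy).hom a) ∈
        Φ.hom.range := fun a => by
      have eψ : W'' ≤ ψ ⁻¹ᵁ (m ⁻¹ᵁ O) := eO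
      rw [Groth.L27.Quot.evaluation_appLE ψ eψ x'' hxW'']
      refine hval _ fun σ => ?_
      show ((mv f'' d σ).appLE W'' W'' (hWs'' σ)).hom ((ψ.appLE (m ⁻¹ᵁ O) W'' eψ).hom a) = _
      rw [appLE_appLE_apply, appLE_congr_apply (show mv f'' d σ ≫ ψ = ψ by
        have h := hr.isQuot.inv ⟨σ.down.symm⟩
        rw [SymProd.permActU_hom] at h
        simp only [ψ]
        rw [← Category.assoc, mv_hmap f' f'' (pullback.fst f' ι) ι pullback.condition σ, Category.assoc]
        exact congrArg (c ≫ ·) h)]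
    obtain ⟨a', ha'⟩ := hin a
    obtain ⟨b', hb'⟩ := hin b
    refine ⟨a' / b', (ψ.residueFieldMap x'').hom.injective ?_⟩
    rw [map_div₀, map_div₀, map_div₀]
    exact congrArg₂ (· / ·) ha' hb'
  haveI : IsIso (m.residueFieldMap (ψ.base x'')) :=
    (ConcreteCategory.isIso_iff_bijective _).2 ⟨(m.residueFieldMap (ψ.base x'')).hom.injective, hsurj⟩
  have hfin : IsIso (m.residueFieldMap (r.base (c.base x''))) := this
  rwa [hx''] at hfin

end Groth.L22.SymQuot
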