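import Groth.Agent.L22.Gamma.Universal

/-!
# Symmetric tensors of flat modules are spanned by orbit sums of generators
-/

set_option autoImplicit false
set_option backward.isDefEq.respectTransparency.types false

universe u

open scoped TensorProduct
open Module Groth.L22.Gamma

namespace Groth.L22.SymQuot

variable {R M : Type u} [CommRing R] [AddCommGroup M] [Module R M] {d : ℕ} {κ : Type u}

/-- If `M` is flat, or `d!` is invertible, symmetric tensors are spanned by orbit sums of generators. -/
theorem symT_le_span_of_flat_or_isUnit (w : κ → M) (hw : Submodule.span R (Set.range w) = ⊤)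
    (h : Module.Flat R M ∨ IsUnit ((d.factorial : ℕ) : R)) :
    symT R M d ≤ Submodule.span R (Set.range (sym R d w)) := by
  classical
  let π : (κ →₀ R) →ₗ[R] M := Finsupp.linearCombination R w
  have hπ : Function.Surjective π := by
    rw [← LinearMap.range_eq_top, Finsupp.range_linearCombination, hw]
  let e : Basis κ R (κ →₀ R) := Finsupp.basisSingleOne
  have hπe : ∀ i, π (e i) = w i := fun i => by simp [π, e]
  intro t ht
  obtain ⟨z, hz⟩ := tmapL_surjective (d := d) hπ t
  suffices ∃ u ∈ symT R (κ →₀ R) d, tmapL d π u = t by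
    obtain ⟨u, hu, rfl⟩ := this
    have key : Submodule.span R (Set.range (sym R d e)) ≤
        (Submodule.span R (Set.range (sym R d w))).comap (tmapL d π) := by
      rw [Submodule.span_le]
      rintro _ ⟨ν, rfl⟩
      exact Submodule.subset_span ⟨ν, by rw [tmapL_sym]; simp only [hπe]⟩
    exact key (symT_le_span e hu)
  rcases h with hfl | hd
  · obtain ⟨ι', F', _, _, e', g, π', hg, hker⟩ := exists_free_killing e (π := π) hπ
      (fun σ : Equiv.Perm (Fin d) => PiTensorProduct.reindex R (fun _ : Fin d => κ →₀ R) σ z - z)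
      (fun σ => by rw [map_sub, tmapL_reindex, hz, sub_eq_zero]; exact ht σ)
    have hmem : tmapL d g z ∈ symT R F' d := fun σ => by
      rw [← tmapL_reindex, ← sub_eq_zero, ← map_sub]; exact hker σ
    choose l hl using fun i => hπ (π' (e' i))
    have key : Submodule.span R (Set.range (sym R d e')) ≤
        ((symT R (κ →₀ R) d).map (tmapL d π)).comap (tmapL d π') := by
      rw [Submodule.span_le]
      rintro _ ⟨ν, rfl⟩
      refine ⟨sym R d l ν, sym_mem _ _, ?_⟩
      simp [tmapL_sym, hl]
    obtain ⟨u, hu, hu'⟩ := key (symT_le_span e' hmem)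
    refine ⟨u, hu, hu'.trans ?_⟩
    rw [← hz, ← LinearMap.comp_apply, ← tmapL_comp, hg]
  · obtain ⟨c, hc⟩ := hd
    refine ⟨(↑c⁻¹ : R) • ∑ σ : Equiv.Perm (Fin d), PiTensorProduct.reindex R (fun _ : Fin d => κ →₀ R) σ z,
      fun τ => ?_, ?_⟩
    · rw [map_smul, map_sum]
      congr 1
      refine Fintype.sum_equiv (Equiv.mulLeft τ) _ _ fun σ => ?_
      exact LinearMap.congr_fun (PiTensorProduct.ext (MultilinearMap.ext fun v => by
        simp [PiTensorProduct.reindex_tprod, Equiv.Perm.mul_def]) :
        (PiTensorProduct.reindex R (fun _ : Fin d => κ →₀ R) τ).toLinearMap ∘ₗ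
          (PiTensorProduct.reindex R (fun _ : Fin d => κ →₀ R) σ).toLinearMap =
          (PiTensorProduct.reindex R (fun _ : Fin d => κ →₀ R) (τ * σ)).toLinearMap) z
    · rw [map_smul, map_sum]
      simp only [tmapL_reindex, hz, ht _, Finset.sum_const, Finset.card_univ, Fintype.card_perm,
        Fintype.card_fin]
      rw [← Nat.cast_smul_eq_nsmul R, ← hc, smul_smul, Units.inv_mul, one_smul]

end Groth.L22.SymQuot
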