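import Groth.Agent.L27.InvEtale.Points
import Mathlib.RingTheory.Flat.Basic
import Mathlib.RingTheory.Invariant.Basic
import Mathlib.LinearAlgebra.TensorProduct.Basic

/-!
# The trace from the invariants of a subgroup

Let a finite group `G` act on `B`, let `H` contain the inertia of a prime `q`.  Then invariance statements
about `G` follow from the same statements about `H` near `q`: every `u` in `B^H` outside `q` has a multiple
whose trace is outside `q`.
-/

set_option autoImplicit false
set_option linter.style.haveILetI false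
set_option backward.isDefEq.respectTransparency.types false

universe u

open Polynomial TensorProduct

namespace Groth.L22.SymQuot

variable {G : Type u} [Group G] [Finite G] {B : Type u} [CommRing B] [MulSemiringAction G B] (H : Subgroup G)

open Groth.L27.InvEtale (orb orb_mk orb_one smul_orb)

noncomputable local instance : Fintype (G ⧸ H) := Fintype.ofFinite _

open scoped Classical

/-- Sum over the cosets of the conjugates of an `H`-invariant element. -/
noncomputable def tr (x : FixedPoints.subring B H) : FixedPoints.subring B G :=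
  ⟨∑ c, orb H x c, fun g => by
    rw [Finset.smul_sum]
    exact Fintype.sum_equiv (MulAction.toPerm g) _ _ fun c => smul_orb H x g c⟩

theorem coe_tr (x : FixedPoints.subring B H) : ((tr H x : FixedPoints.subring B G) : B) = ∑ c, orb H x c := rfl

theorem orb_add (x y : FixedPoints.subring B H) (c : G ⧸ H) : orb H (x + y) c = orb H x c + orb H y c := by
  induction c using QuotientGroup.induction_on with
  | H g => simp only [orb_mk, Subring.coe_add, smul_add]

theorem orb_mul (x y : FixedPoints.subring B H) (c : G ⧸ H) : orb H (x * y) c = orb H x c * orb H y c := by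
  induction c using QuotientGroup.induction_on with
  | H g => simp only [orb_mk, Subring.coe_mul, smul_mul']

theorem tr_add (x y : FixedPoints.subring B H) : tr H (x + y) = tr H x + tr H y :=
  Subtype.ext (by simp only [Subring.coe_add, coe_tr, orb_add, Finset.sum_add_distrib])

theorem tr_mul_invariant (a : B) (ha : ∀ g : G, g • a = a) (x : FixedPoints.subring B H) :
    ((tr H (⟨a, fun h => ha h⟩ * x) : FixedPoints.subring B G) : B) = a * (tr H x : FixedPoints.subring B G) := by
  rw [coe_tr, coe_tr, Finset.mul_sum]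
  refine Finset.sum_congr rfl fun c _ => ?_
  induction c using QuotientGroup.induction_on with
  | H g => rw [orb_mk, orb_mk, Subring.coe_mul, smul_mul', ha]

/-- Some multiple of `u` has trace outside `q`. -/
theorem exists_tr_notMem (q : Ideal B) [q.IsPrime] (θ : FixedPoints.subring B H)
    (hθ : ∀ g : G, g ∉ H → (θ : B) - g • (θ : B) ∉ q) (u : FixedPoints.subring B H) (hu : (u : B) ∉ q) :
    ∃ w : FixedPoints.subring B H, ((tr H (u * w) : FixedPoints.subring B G) : B) ∉ q := by
  let W : G ⧸ H → B[X] := fun c => ∏ c' ∈ Finset.univ.erase c, (X - C (orb H θ c'))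
  have hW : ∀ (g : G) (c : G ⧸ H), (W c).map (MulSemiringAction.toRingHom G B g) = W (g • c) := by
    intro g c
    rw [Polynomial.map_prod]
    refine Finset.prod_equiv (MulAction.toPerm g) (fun d => ?_) (fun d _ => ?_)
    · simp
    · rw [Polynomial.map_sub, map_X, map_C]
      exact congrArg (fun a => X - C a) (smul_orb H θ g d)
  let c₀ : G ⧸ H := QuotientGroup.mk (1 : G)
  have hc₀ : ∀ h : H, (h : G) • c₀ = c₀ := fun h => by
    show QuotientGroup.mk ((h : G) * 1) = QuotientGroup.mk (1 : G)
    rw [mul_one, QuotientGroup.eq, mul_one]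
    exact H.inv_mem h.2
  let w : ℕ → FixedPoints.subring B H := fun j => ⟨(W c₀).coeff j, fun h => by
    show (h : G) • (W c₀).coeff j = (W c₀).coeff j
    conv_rhs => rw [← hc₀ h, ← hW]
    rw [coeff_map]
    rfl⟩
  by_contra hcon
  push Not at hcon
  have hL : ∀ j, (∑ c, C (orb H u c) * W c).coeff j ∈ q := by
    intro j
    have h1 : (∑ c, C (orb H u c) * W c).coeff j = ((tr H (u * w j) : FixedPoints.subring B G) : B) := by
      rw [finsetSum_coeff, coe_tr]
      refine Finset.sum_congr rfl fun c _ => ?_
      rw [coeff_C_mul, orb_mul]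
      congr 1
      induction c using QuotientGroup.induction_on with
      | H g =>
        rw [orb_mk]
        show (W (QuotientGroup.mk g)).coeff j = g • (W c₀).coeff j
        have h2 : (g • c₀ : G ⧸ H) = QuotientGroup.mk g := congrArg QuotientGroup.mk (mul_one g)
        rw [← h2, ← hW, coeff_map]
        rfl
    rw [h1]
    exact hcon _
  have h2 : (∑ c, C (orb H u c) * W c).eval (θ : B) ∈ q := by
    rw [eval_eq_sum_range]
    exact Ideal.sum_mem _ fun j _ => Ideal.mul_mem_right _ _ (hL j)
  have h3 : (∑ c, C (orb H u c) * W c).eval (θ : B) = (u : B) * (W c₀).eval (θ : B) := by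
    rw [eval_finsetSum, Finset.sum_eq_single c₀]
    · rw [eval_mul, eval_C, orb_one]
    · intro d _ hd
      rw [eval_mul, eval_prod]
      refine mul_eq_zero_of_right _ (Finset.prod_eq_zero (Finset.mem_erase.2 ⟨hd.symm, Finset.mem_univ _⟩) ?_)
      rw [eval_sub, eval_X, eval_C, orb_one, sub_self]
    · intro h; exact absurd (Finset.mem_univ _) h
  rw [h3] at h2
  refine (Ideal.IsPrime.mem_or_mem inferInstance h2).elim hu ?_
  rw [eval_prod, Ideal.IsPrime.prod_mem_iff]
  rintro ⟨c, hc, hmem⟩
  obtain ⟨g, rfl⟩ := QuotientGroup.mk_surjective c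
  rw [eval_sub, eval_X, eval_C, orb_mk] at hmem
  refine hθ g (fun hg => (Finset.mem_erase.1 hc).1 ?_) hmem
  rw [QuotientGroup.eq]
  simpa using H.inv_mem hg

/-- Every maximal ideal of the invariants avoids such a trace. -/
theorem eq_top_of_forall_prime (𝔞 : Ideal (FixedPoints.subring B G))
    (h : ∀ (q : Ideal B) [q.IsPrime], ∃ a ∈ 𝔞, (a : B) ∉ q) : 𝔞 = ⊤ := by
  by_contra hne
  obtain ⟨m, hm, hle⟩ := Ideal.exists_le_maximal 𝔞 hne
  letI : Algebra (FixedPoints.subring B G) B := (FixedPoints.subring B G).subtype.toAlgebra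
  haveI : SMulCommClass G (FixedPoints.subring B G) B := ⟨fun g a b => by
    show g • ((a : B) * b) = (a : B) * g • b
    rw [smul_mul', a.2 g]⟩
  haveI : Algebra.IsInvariant (FixedPoints.subring B G) B G := ⟨fun b hb => ⟨⟨b, hb⟩, rfl⟩⟩
  haveI : Algebra.IsIntegral (FixedPoints.subring B G) B := Algebra.IsInvariant.isIntegral _ B G
  obtain ⟨q, hq, hqm⟩ := Ideal.exists_ideal_over_maximal_of_isIntegral (S := B) m (by
    rw [(RingHom.injective_iff_ker_eq_bot _).1 Subtype.val_injective]; exact bot_le)
  haveI := hq.isPrime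
  obtain ⟨a, ha, haq⟩ := h q
  exact haq (by
    have := hle ha
    rw [← hqm] at this
    exact this)

/-- A linear map commutes with base change along an ideal. -/
theorem lTensor_rTensor_comm {R M N : Type u} [CommRing R] [AddCommGroup M] [Module R M] [AddCommGroup N]
    [Module R N] (f : M →ₗ[R] N) (I : Ideal R) (z : M ⊗[R] I) :
    (I.subtype).lTensor N (f.rTensor I z) = f.rTensor R ((I.subtype).lTensor M z) := by
  rw [← LinearMap.comp_apply, ← LinearMap.comp_apply, LinearMap.lTensor_comp_rTensor,
    LinearMap.rTensor_comp_lTensor]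

/-- The invariants of a subgroup, as a subalgebra. -/
def invAlg (R : Type u) [CommRing R] [Algebra R B] [SMulCommClass G R B] : Subalgebra R B where
  carrier := {b | ∀ g : H, g • b = b}
  mul_mem' := fun {a b} ha hb g => by rw [smul_mul', ha g, hb g]
  add_mem' := fun {a b} ha hb g => by rw [smul_add, ha g, hb g]
  algebraMap_mem' := fun r g => smul_algebraMap (g : G) r

section Flat

variable {R : Type u} [CommRing R] [Algebra R B] [SMulCommClass G R B]
  {A : Subalgebra R B} (hA : ∀ b, b ∈ A ↔ ∀ g : G, g • b = b)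

/-- The trace of a multiple, as a linear map to the invariants. -/
noncomputable def trLin (w : FixedPoints.subring B H) : (invAlg (B := B) H R) →ₗ[R] A where
  toFun x := ⟨(tr H ((⟨(x : B), x.2⟩ : FixedPoints.subring B H) * w) : FixedPoints.subring B G),
    (hA _).2 fun g => (tr H ((⟨(x : B), x.2⟩ : FixedPoints.subring B H) * w)).2 g⟩
  map_add' x y := by
    apply Subtype.ext
    show ((tr H _ : FixedPoints.subring B G) : B) =
      ((tr H ((⟨(x : B), x.2⟩ : FixedPoints.subring B H) * w) : FixedPoints.subring B G) : B) +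
        ((tr H ((⟨(y : B), y.2⟩ : FixedPoints.subring B H) * w) : FixedPoints.subring B G) : B)
    rw [← Subring.coe_add, ← tr_add]
    exact congrArg (fun z => ((tr H z : FixedPoints.subring B G) : B)) (Subtype.ext (add_mul (x : B) (y : B) (w : B)))
  map_smul' r x := by
    apply Subtype.ext
    show ((tr H _ : FixedPoints.subring B G) : B) =
      r • ((tr H ((⟨(x : B), x.2⟩ : FixedPoints.subring B H) * w) : FixedPoints.subring B G) : B)
    refine Eq.trans ?_ ((tr_mul_invariant H (algebraMap R B r) (fun g => smul_algebraMap g r)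
      (⟨(x : B), x.2⟩ * w)).trans (Algebra.smul_def r _).symm)
    refine congrArg (fun z => ((tr H z : FixedPoints.subring B G) : B)) (Subtype.ext ?_)
    show (r • (x : B)) * (w : B) = algebraMap R B r * ((x : B) * (w : B))
    rw [Algebra.smul_def, mul_assoc]

/-- Invariants of `G` inside those of `H`. -/
def incLin : A →ₗ[R] (invAlg (B := B) H R) where
  toFun a := ⟨(a : B), fun g => (hA _).1 a.2 g⟩
  map_add' _ _ := rfl
  map_smul' _ _ := rfl

theorem trLin_comp (w : FixedPoints.subring B H) (u : (invAlg (B := B) H R)) (a : A)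
    (ha : (a : B) = (tr H ((⟨(u : B), u.2⟩ : FixedPoints.subring B H) * w) : FixedPoints.subring B G)) :
    trLin H hA w ∘ₗ LinearMap.mulLeft R u ∘ₗ incLin H hA = LinearMap.mulLeft R a := by
  refine LinearMap.ext fun x => Subtype.ext ?_
  show ((tr H _ : FixedPoints.subring B G) : B) = (a : B) * (x : B)
  refine Eq.trans (congrArg (fun z => ((tr H z : FixedPoints.subring B G) : B)) ?_) (?_ : ((tr H
    (⟨(x : B), fun g => (hA _).1 x.2 g⟩ * (⟨(u : B), u.2⟩ * w)) : FixedPoints.subring B G) : B) = _)
  · exact Subtype.ext (by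
      show ((u : B) * (x : B)) * (w : B) = (x : B) * ((u : B) * (w : B))
      ring)
  · rw [tr_mul_invariant H (x : B) ((hA _).1 x.2), ha, mul_comm]

end Flat

/-- Flatness of the invariants from flatness of the invariants of subgroups near every prime. -/
theorem flat_invariants {R : Type u} [CommRing R] [Algebra R B] [SMulCommClass G R B]
    (A : Subalgebra R B) (hA : ∀ b, b ∈ A ↔ ∀ g : G, g • b = b)
    (h : ∀ (q : Ideal B) [q.IsPrime], ∃ (H : Subgroup G) (θ : FixedPoints.subring B H),
      (∀ g : G, g ∉ H → (θ : B) - g • (θ : B) ∉ q) ∧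
        ∀ (I : Ideal R) (z : (invAlg (B := B) H R) ⊗[R] I), (I.subtype).lTensor ((invAlg (B := B) H R)) z = 0 →
          ∃ u : (invAlg (B := B) H R), (u : B) ∉ q ∧ (LinearMap.mulLeft R u).rTensor I z = 0) :
    Module.Flat R A := by
  rw [Module.Flat.iff_lTensor_injective']
  intro I
  rw [injective_iff_map_eq_zero]
  intro z hz
  let e : FixedPoints.subring B G → A := fun a => ⟨(a : B), (hA _).2 a.2⟩
  let 𝔞 : Ideal (FixedPoints.subring B G) :=
    { carrier := {a | (LinearMap.mulLeft R (e a)).rTensor I z = 0}
      add_mem' := fun {a b} ha hb => by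
        show (LinearMap.mulLeft R (e (a + b))).rTensor I z = 0
        rw [show LinearMap.mulLeft R (e (a + b)) = LinearMap.mulLeft R (e a) + LinearMap.mulLeft R (e b) from
          LinearMap.ext fun x => add_mul (e a) (e b) x, LinearMap.rTensor_add, LinearMap.add_apply]
        exact (congrArg₂ (· + ·) ha hb).trans (add_zero _)
      zero_mem' := by
        show (LinearMap.mulLeft R (e 0)).rTensor I z = 0
        rw [show LinearMap.mulLeft R (e 0) = 0 from LinearMap.ext fun x => zero_mul x,
          LinearMap.rTensor_zero, LinearMap.zero_apply]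
      smul_mem' := fun c a ha => by
        show (LinearMap.mulLeft R (e (c * a))).rTensor I z = 0
        rw [show LinearMap.mulLeft R (e (c * a)) = LinearMap.mulLeft R (e c) ∘ₗ LinearMap.mulLeft R (e a) from
          LinearMap.ext fun x => mul_assoc (e c) (e a) x, LinearMap.rTensor_comp, LinearMap.comp_apply]
        exact (congrArg _ ha).trans (map_zero _) }
  have htop : 𝔞 = ⊤ := by
    refine eq_top_of_forall_prime 𝔞 fun q _ => ?_
    obtain ⟨H, θ, hθ, hq⟩ := h q
    have h0 : (I.subtype).lTensor ((invAlg (B := B) H R)) ((incLin H hA).rTensor I z) = 0 := by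
      rw [lTensor_rTensor_comm, hz, map_zero]
    obtain ⟨u, hu, huz⟩ := hq I _ h0
    obtain ⟨w, hw⟩ := exists_tr_notMem H q θ hθ ⟨(u : B), u.2⟩ hu
    refine ⟨_, ?_, hw⟩
    show (LinearMap.mulLeft R (e _)).rTensor I z = 0
    rw [← trLin_comp H hA w u (e _) rfl, LinearMap.rTensor_comp, LinearMap.rTensor_comp,
      LinearMap.comp_apply, LinearMap.comp_apply, huz, map_zero]
  have h2 : (LinearMap.mulLeft R (e 1)).rTensor I z = 0 :=
    (htop ▸ Submodule.mem_top : (1 : FixedPoints.subring B G) ∈ 𝔞)
  rwa [show e 1 = (1 : A) from rfl, LinearMap.mulLeft_one, LinearMap.rTensor_id, LinearMap.id_apply] at h2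

variable {R' C : Type u} [CommRing R'] [CommRing C] (φ : B →+* C) (ψ : R' →+* C)

/-- Sums of products of images of elements of `R'` and of elements of `B` satisfying `P`. -/
def Sp (P : B → Prop) : AddSubgroup C :=
  AddSubgroup.closure {y | ∃ (r : R') (b : B), P b ∧ y = ψ r * φ b}

theorem mem_Sp {P : B → Prop} (r : R') (b : B) (hb : P b) : ψ r * φ b ∈ Sp φ ψ P :=
  AddSubgroup.subset_closure ⟨r, b, hb, rfl⟩

theorem mul_mem_Sp {P : B → Prop} (r : R') (b : B) (hP : ∀ b', P b' → P (b * b')) {y : C}
    (hy : y ∈ Sp φ ψ P) : ψ r * φ b * y ∈ Sp φ ψ P := by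
  induction hy using AddSubgroup.closure_induction with
  | mem y hy =>
    obtain ⟨r', b', hb', rfl⟩ := hy
    rw [show ψ r * φ b * (ψ r' * φ b') = ψ (r * r') * φ (b * b') by simp only [map_mul]; ring]
    exact mem_Sp φ ψ _ _ (hP _ hb')
  | zero => rw [mul_zero]; exact zero_mem _
  | add x y _ _ hx hy => rw [mul_add]; exact add_mem hx hy
  | neg x _ hx => rw [mul_neg]; exact neg_mem hx

/-- Invariants are spanned by invariants if this holds for subgroups near every prime. -/
theorem mem_Sp_of_forall_prime [MulSemiringAction G C] (hφ : ∀ (g : G) b, φ (g • b) = g • φ b)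
    (hψ : ∀ (g : G) r, g • ψ r = ψ r) (s : C) (hs : ∀ g : G, g • s = s)
    (h : ∀ (q : Ideal B) [q.IsPrime], ∃ (H : Subgroup G) (θ : FixedPoints.subring B H),
      (∀ g : G, g ∉ H → (θ : B) - g • (θ : B) ∉ q) ∧
      ∃ u : FixedPoints.subring B H, (u : B) ∉ q ∧ φ u * s ∈ Sp φ ψ fun b => ∀ g : H, g • b = b) :
    s ∈ Sp φ ψ fun b => ∀ g : G, g • b = b := by
  let 𝔞 : Ideal (FixedPoints.subring B G) :=
    { carrier := {a : FixedPoints.subring B G | φ (a : B) * s ∈ Sp φ ψ fun b => ∀ g : G, g • b = b}
      add_mem' := fun {a b} ha hb => by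
        show φ ((a + b : FixedPoints.subring B G) : B) * s ∈ Sp φ ψ fun b => ∀ g : G, g • b = b
        rw [Subring.coe_add, map_add, add_mul]
        exact add_mem ha hb
      zero_mem' := by
        show φ ((0 : FixedPoints.subring B G) : B) * s ∈ Sp φ ψ fun b => ∀ g : G, g • b = b
        rw [ZeroMemClass.coe_zero, map_zero, zero_mul]
        exact zero_mem _
      smul_mem' := fun c a ha => by
        show φ ((c * a : FixedPoints.subring B G) : B) * s ∈ Sp φ ψ fun b => ∀ g : G, g • b = b
        rw [Subring.coe_mul, map_mul, mul_assoc, ← one_mul (φ (c : B)), ← map_one ψ]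
        exact mul_mem_Sp φ ψ 1 (c : B) (fun b hb g => by rw [smul_mul', c.2 g, hb g]) ha }
  have htop : 𝔞 = ⊤ := by
    refine eq_top_of_forall_prime 𝔞 fun q _ => ?_
    obtain ⟨H, θ, hθ, u, hu, hus⟩ := h q
    obtain ⟨w, hw⟩ := exists_tr_notMem H q θ hθ u hu
    refine ⟨_, ?_, hw⟩
    show φ ((tr H (u * w) : FixedPoints.subring B G) : B) * s ∈ Sp φ ψ fun b => ∀ g : G, g • b = b
    have hinv : ∀ x : FixedPoints.subring B H, ∀ h : H, h • φ (x : B) = φ (x : B) := fun x h => by
      show (h : G) • φ (x : B) = φ (x : B)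
      rw [← hφ]; exact congrArg φ (x.2 h)
    -- the trace of `C`
    let Tc : ∀ y : C, (∀ h : H, h • y = y) → C := fun y hy =>
      ((tr H (⟨y, hy⟩ * ⟨φ (w : B), hinv w⟩) : FixedPoints.subring C G) : C)
    have hsum : ∀ y (hy : y ∈ Sp φ ψ fun b => ∀ g : H, g • b = b),
        ∃ hy' : ∀ h : H, h • y = y, Tc y hy' ∈ Sp φ ψ fun b => ∀ g : G, g • b = b := by
      intro y hy
      induction hy using AddSubgroup.closure_induction with
      | mem y hy =>
        obtain ⟨r, b, hb, rfl⟩ := hy
        have hinvy : ∀ h : H, h • (ψ r * φ b) = ψ r * φ b := fun h => by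
          show (h : G) • (ψ r * φ b) = ψ r * φ b
          rw [smul_mul', hψ]
          exact congrArg _ (hinv ⟨b, hb⟩ h)
        refine ⟨hinvy, ?_⟩
        have hval : Tc (ψ r * φ b) hinvy =
            ψ r * φ ((tr H (⟨b, hb⟩ * w) : FixedPoints.subring B G) : B) := by
          simp only [Tc, coe_tr, map_sum, Finset.mul_sum]
          refine Finset.sum_congr rfl fun c _ => ?_
          induction c using QuotientGroup.induction_on with
          | H g =>
            rw [orb_mk, orb_mk, Subring.coe_mul, Subring.coe_mul, hφ, map_mul]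
            show g • (ψ r * φ b * φ (w : B)) = ψ r * g • (φ b * φ (w : B))
            rw [mul_assoc, smul_mul', hψ]
        rw [hval]
        exact mem_Sp φ ψ _ _ fun g => (tr H (⟨b, hb⟩ * w)).2 g
      | zero =>
        refine ⟨fun h => smul_zero _, ?_⟩
        have : Tc 0 (fun h => smul_zero _) = 0 := by
          simp only [Tc, coe_tr]
          refine Finset.sum_eq_zero fun c _ => ?_
          induction c using QuotientGroup.induction_on with
          | H g =>
            rw [orb_mk, Subring.coe_mul]
            show g • ((0 : C) * φ (w : B)) = 0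
            rw [zero_mul, smul_zero]
        rw [this]; exact zero_mem _
      | add x y _ _ hx hy =>
        obtain ⟨hx', hxm⟩ := hx
        obtain ⟨hy', hym⟩ := hy
        refine ⟨fun h => by rw [smul_add, hx' h, hy' h], ?_⟩
        have : Tc (x + y) (fun h => by rw [smul_add, hx' h, hy' h]) = Tc x hx' + Tc y hy' := by
          simp only [Tc, ← Subring.coe_add, ← tr_add, ← add_mul]
          rfl
        rw [this]; exact add_mem hxm hym
      | neg x _ hx =>
        obtain ⟨hx', hxm⟩ := hx
        refine ⟨fun h => by rw [smul_neg, hx' h], ?_⟩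
        have : Tc (-x) (fun h => by rw [smul_neg, hx' h]) = - Tc x hx' := by
          simp only [Tc, coe_tr, ← Finset.sum_neg_distrib]
          refine Finset.sum_congr rfl fun c _ => ?_
          induction c using QuotientGroup.induction_on with
          | H g =>
            rw [orb_mk, orb_mk, Subring.coe_mul, Subring.coe_mul]
            show g • (-x * φ (w : B)) = -(g • (x * φ (w : B)))
            rw [neg_mul, smul_neg]
        rw [this]; exact neg_mem hxm
    obtain ⟨hy', hmem⟩ := hsum _ hus
    have hval : Tc (φ (u : B) * s) hy' = φ ((tr H (u * w) : FixedPoints.subring B G) : B) * s := by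
      simp only [Tc, coe_tr, map_sum, Finset.sum_mul]
      refine Finset.sum_congr rfl fun c _ => ?_
      induction c using QuotientGroup.induction_on with
      | H g =>
        rw [orb_mk, orb_mk, Subring.coe_mul, Subring.coe_mul, hφ, map_mul]
        show g • (φ (u : B) * s * φ (w : B)) = g • (φ (u : B) * φ (w : B)) * s
        rw [show φ (u : B) * s * φ (w : B) = φ (u : B) * φ (w : B) * s by ring, smul_mul', hs]
    rwa [hval] at hmem
  have h1 : (1 : FixedPoints.subring B G) ∈ 𝔞 := htop ▸ Submodule.mem_top
  have h2 : φ ((1 : FixedPoints.subring B G) : B) * s ∈ Sp φ ψ fun b => ∀ g : G, g • b = b := h1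
  rwa [OneMemClass.coe_one, map_one, one_mul] at h2

end Groth.L22.SymQuot
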